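import Cfsg.Agent.H34.Star.OrbitBound
import Cfsg.Agent.H34.Para.Two
import Mathlib

/-!
A group normalising the symmetric group of odd degree on its even-weight module consists of
permutations, and the fixed-point bound holds.
-/

set_option autoImplicit false
set_option linter.style.haveILetI false
set_option maxHeartbeats 1000000

namespace Cfsg.Agent.H34.Star

/-- The even-weight vectors. -/
def evW (n : ℕ) : AddSubgroup (Fin n → ZMod 2) :=
  (AddMonoidHom.mk' (fun v : Fin n → ZMod 2 => ∑ i, v i) fun _ _ => Finset.sum_add_distrib).ker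

theorem mem_evW {n : ℕ} {v : Fin n → ZMod 2} : v ∈ evW n ↔ ∑ i, v i = 0 := Iff.rfl

/-- The action of a permutation on even-weight vectors. -/
def evAct {n : ℕ} (π : Equiv.Perm (Fin n)) (v : ↥(evW n)) : ↥(evW n) :=
  ⟨fun i => v.1 (π⁻¹ i), by
    rw [mem_evW, Equiv.sum_comp π⁻¹ v.1]; exact v.2⟩

theorem evAct_mul {n : ℕ} (π σ : Equiv.Perm (Fin n)) (v : ↥(evW n)) :
    evAct (π * σ) v = evAct π (evAct σ v) :=
  Subtype.ext (funext fun i => congrArg v.1 (by simp [mul_inv_rev]))

theorem evAct_one {n : ℕ} (v : ↥(evW n)) : evAct 1 v = v :=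
  Subtype.ext (funext fun i => congrArg v.1 (by simp))

/-- A pair vector. -/
def evPair {n : ℕ} (a b : Fin n) : ↥(evW n) :=
  ⟨fun i => (if i = a then 1 else 0) + (if i = b then 1 else 0), by
    rw [mem_evW, Finset.sum_add_distrib, Finset.sum_ite_eq', Finset.sum_ite_eq']
    simp
    rfl⟩

theorem evPair_apply {n : ℕ} (a b i : Fin n) :
    (evPair a b).1 i = (if i = a then 1 else 0) + (if i = b then 1 else 0) := rfl

theorem evAct_pair {n : ℕ} (π : Equiv.Perm (Fin n)) (a b : Fin n) :
    evAct π (evPair a b) = evPair (π a) (π b) := by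
  refine Subtype.ext (funext fun i => ?_)
  show (if π⁻¹ i = a then (1 : ZMod 2) else 0) + (if π⁻¹ i = b then 1 else 0) = _
  simp only [evPair_apply, Equiv.Perm.inv_eq_iff_eq, eq_comm (a := i)]

theorem evPair_eq {n : ℕ} {a b c d : Fin n} (hab : a ≠ b) (h : evPair a b = evPair c d) :
    (a = c ∧ b = d) ∨ (a = d ∧ b = c) := by
  have ha : a = c ∨ a = d := by
    by_contra hno
    simp only [not_or] at hno
    have e := congrFun (congrArg Subtype.val h) a
    simp [evPair_apply, hab, hno.1, hno.2] at e
  have hb : b = c ∨ b = d := by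
    by_contra hno
    simp only [not_or] at hno
    have e := congrFun (congrArg Subtype.val h) b
    simp [evPair_apply, hab.symm, hno.1, hno.2] at e
  rcases ha with h1 | h1 <;> rcases hb with h2 | h2
  · exact absurd (h1.trans h2.symm) hab
  · exact Or.inl ⟨h1, h2⟩
  · exact Or.inr ⟨h1, h2⟩
  · exact absurd (h1.trans h2.symm) hab

theorem evPair_ne_zero {n : ℕ} {a b : Fin n} (hab : a ≠ b) : evPair a b ≠ 0 := fun h => by
  have := congrFun (congrArg Subtype.val h) a
  simp [evPair_apply, hab] at this

theorem evPair_add {n : ℕ} (a b c : Fin n) : evPair a b + evPair b c = evPair a c := by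
  refine Subtype.ext (funext fun i => ?_)
  show (evPair a b).1 i + (evPair b c).1 i = (evPair a c).1 i
  simp only [evPair_apply]
  split_ifs <;> decide

theorem evPair_comm {n : ℕ} (a b : Fin n) : evPair a b = evPair b a :=
  Subtype.ext (funext fun i => by simp only [evPair_apply, add_comm])

theorem z2cases : ∀ a : ZMod 2, a = 0 ∨ a = 1 := by decide

/-- An additive map of even-weight vectors is determined on pairs. -/
theorem ev_ext {n : ℕ} {W : Type*} [AddCommGroup W] (hn : 0 < n) (f g : ↥(evW n) →+ W)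
    (h : ∀ a b : Fin n, a ≠ b → f (evPair a b) = g (evPair a b)) : f = g := by
  classical
  let o : Fin n := ⟨0, hn⟩
  refine AddMonoidHom.ext fun v => ?_
  have hv : v = ∑ k ∈ Finset.univ.filter (fun k => k ≠ o ∧ v.1 k = 1), evPair o k := by
    refine Subtype.ext (funext fun i => ?_)
    rw [AddSubgroup.val_finsetSum, Finset.sum_apply]
    simp only [evPair_apply, Finset.sum_add_distrib]
    by_cases hi : i = o
    · subst hi
      simp only [if_true]
      have hs : ∑ k, v.1 k = 0 := v.2
      rw [← Finset.add_sum_erase _ _ (Finset.mem_univ o)] at hs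
      have h1 : ∑ k ∈ Finset.univ.erase o, v.1 k =
          ∑ _k ∈ Finset.univ.filter (fun k => k ≠ o ∧ v.1 k = 1), (1 : ZMod 2) := by
        rw [Finset.sum_filter, ← Finset.add_sum_erase _ _ (Finset.mem_univ o),
          if_neg (fun h' : o ≠ o ∧ _ => h'.1 rfl), zero_add]
        refine Finset.sum_congr rfl fun k hk => ?_
        rcases z2cases (v.1 k) with e | e <;> simp [e, (Finset.mem_erase.1 hk).1]
      rw [h1] at hs
      rw [Finset.sum_eq_zero (s := Finset.univ.filter (fun k => k ≠ o ∧ v.1 k = 1))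
        (f := fun k => if o = k then (1 : ZMod 2) else 0)
        (fun k hk => if_neg fun e => (Finset.mem_filter.1 hk).2.1 e.symm), add_zero]
      rcases z2cases (v.1 o) with e | e <;> rw [e] at hs ⊢
      · rw [zero_add] at hs; rw [hs]
      · exact Para.z2_eq_of_add _ _ hs
    · simp only [if_neg hi, Finset.sum_const_zero, zero_add, Finset.sum_ite_eq, Finset.mem_filter,
        Finset.mem_univ, true_and]
      rcases z2cases (v.1 i) with e | e <;> simp [e, hi]
  rw [hv, map_sum, map_sum]
  exact Finset.sum_congr rfl fun k hk => h o k (Ne.symm (Finset.mem_filter.1 hk).2.1)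

/-- An involution of odd degree has a fixed point. -/
theorem exists_fixed_of_involutive {n : ℕ} (hodd : (n : ZMod 2) = 1) (π : Equiv.Perm (Fin n))
    (hπ : ∀ x, π (π x) = x) : ∃ x, π x = x := by
  by_contra hall
  push Not at hall
  have h0 : ∑ _a : Fin n, (1 : ZMod 2) = 0 :=
    Finset.sum_involution (fun a _ => π a) (fun _ _ => Para.z2_add_self 1) (fun a _ _ => hall a)
      (fun _ _ => Finset.mem_univ _) (fun a _ => hπ a)
  rw [Finset.sum_const, Finset.card_univ, Fintype.card_fin, nsmul_eq_mul, mul_one, hodd] at h0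
  exact one_ne_zero h0

theorem evAct_faithful {n : ℕ} (hn : 3 ≤ n) {π : Equiv.Perm (Fin n)} (h : ∀ v, evAct π v = v) : π = 1 := by
  classical
  refine Equiv.ext fun a => ?_
  show π a = a
  obtain ⟨b, hb⟩ : ∃ b, b ∈ (Finset.univ.erase a).erase (π a) := Finset.card_pos.1 (by
    have h1 : (Finset.univ.erase a).card = n - 1 := by
      rw [Finset.card_erase_of_mem (Finset.mem_univ a), Finset.card_univ, Fintype.card_fin]
    have h2 := Finset.pred_card_le_card_erase (a := π a) (s := Finset.univ.erase a)
    omega)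
  simp only [Finset.mem_erase, Finset.mem_univ, and_true] at hb
  have e := h (evPair a b)
  rw [evAct_pair] at e
  rcases evPair_eq (fun e => hb.2 (π.injective e).symm) e with ⟨h1, -⟩ | ⟨h1, -⟩
  · exact h1
  · exact absurd h1.symm hb.1

theorem pair_three : ∀ c d c' d' : Fin 3, c ≠ d → c' ≠ d' → ¬((c = c' ∧ d = d') ∨ (c = d' ∧ d = c')) →
    ∃ a b e : Fin 3, a ≠ b ∧ a ≠ e ∧ b ≠ e ∧ ((c = a ∧ d = b) ∨ (c = b ∧ d = a)) ∧
      ((c' = a ∧ d' = e) ∨ (c' = e ∧ d' = a)) := by
  decide

/-- A normaliser acts as a permutation. -/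
theorem perm_of_normalises {n : ℕ} (hn : 3 ≤ n) (hodd : (n : ZMod 2) = 1) (y : ↥(evW n) ≃+ ↥(evW n))
    (hy : ∀ π, ∃ π', ∀ v, y (evAct π v) = evAct π' (y v))
    (hy' : ∀ π, ∃ π', ∀ v, y.symm (evAct π v) = evAct π' (y.symm v)) :
    ∃ π, ∀ v, y v = evAct π v := by
  classical
  have two : ∀ u : ↥(evW n), u + u = 0 := fun u => Subtype.ext (funext fun i => Para.z2_add_self _)
  have hpp : ∀ y : ↥(evW n) ≃+ ↥(evW n), (∀ π, ∃ π', ∀ v, y (evAct π v) = evAct π' (y v)) →
      ∀ a b, a ≠ b → ∃ c d, c ≠ d ∧ y (evPair a b) = evPair c d := by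
    intro y hy a b hab
    obtain ⟨π', hπ'⟩ := hy (Equiv.swap a b)
    have hsw : ∀ v, evAct (Equiv.swap a b) v = v ∨ evAct (Equiv.swap a b) v = v + evPair a b := by
      intro v
      rcases z2cases (v.1 a + v.1 b) with e | e
      · refine Or.inl (Subtype.ext (funext fun i => ?_))
        show v.1 ((Equiv.swap a b)⁻¹ i) = v.1 i
        rw [Equiv.swap_inv, Equiv.swap_apply_def]
        split_ifs with h1 h2
        · rw [h1]; exact (Para.z2_eq_of_add _ _ e).symm
        · rw [h2]; exact Para.z2_eq_of_add _ _ e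
        · rfl
      · refine Or.inr (Subtype.ext (funext fun i => ?_))
        show v.1 ((Equiv.swap a b)⁻¹ i) = v.1 i + (evPair a b).1 i
        rw [Equiv.swap_inv, Equiv.swap_apply_def, evPair_apply]
        have key : ∀ x y : ZMod 2, x + y = 1 → y = x + 1 ∧ x = y + 1 := by decide
        by_cases h1 : i = a
        · subst h1; simp only [if_true, if_neg hab, add_zero]; exact (key _ _ e).1
        by_cases h2 : i = b
        · subst h2; simp only [if_neg h1, if_true, zero_add]; exact (key _ _ e).2
        · simp only [if_neg h1, if_neg h2, add_zero]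
    have hπ2 : ∀ x, π' (π' x) = x := by
      intro x
      refine Equiv.ext_iff.1 (evAct_faithful hn (π := π' * π') fun w => ?_) x
      obtain ⟨v, rfl⟩ := y.surjective w
      rw [evAct_mul, ← hπ', ← hπ', ← evAct_mul, Equiv.swap_mul_self, evAct_one]
    have hdisp : ∀ w, evAct π' w = w ∨ evAct π' w = w + y (evPair a b) := by
      intro w
      obtain ⟨v, rfl⟩ := y.surjective w
      rw [← hπ']
      rcases hsw v with e | e
      · exact Or.inl (by rw [e])
      · exact Or.inr (by rw [e, map_add])
    obtain ⟨x₀, hx₀⟩ := exists_fixed_of_involutive hodd π' hπ2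
    obtain ⟨c, hc⟩ : ∃ c, π' c ≠ c := by
      by_contra hall
      push Not at hall
      have h1 : π' = 1 := Equiv.ext hall
      have h2 : Equiv.swap a b = 1 := evAct_faithful hn fun v => y.injective (by rw [hπ', h1, evAct_one])
      exact hab (by simpa using (congrFun (congrArg DFunLike.coe h2) a).symm)
    refine ⟨c, π' c, hc.symm, ?_⟩
    have hcx : c ≠ x₀ := fun e => hc (e ▸ hx₀)
    rcases hdisp (evPair c x₀) with e | e <;> rw [evAct_pair, hx₀] at e
    · rcases evPair_eq (fun h => hcx (π'.injective (h.trans hx₀.symm))) e with ⟨h1, -⟩ | ⟨h1, -⟩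
      · exact absurd h1 hc
      · exact absurd (π'.injective (h1.trans hx₀.symm)) hcx
    · have e1 := congrArg (fun u => evPair c x₀ + u) e
      simp only [← add_assoc, two, zero_add] at e1
      rw [← e1, evPair_comm (π' c), evPair_add]
  have h1 := hpp y hy
  have h2 := hpp y.symm hy'
  suffices h : ∃ π : Equiv.Perm (Fin n), ∀ a b, a ≠ b → y (evPair a b) = evPair (π a) (π b) by
    obtain ⟨π, hπ⟩ := h
    refine ⟨π, fun v => ?_⟩
    exact DFunLike.congr_fun (ev_ext (by omega) y.toAddMonoidHom
      (AddMonoidHom.mk' (evAct π) fun u w => rfl) fun a b hab => (hπ a b hab).trans (evAct_pair π a b).symm) v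
  by_cases h5 : 5 ≤ n
  · choose! c d hcd he using h1
    let f : Fin n → Fin n → Finset (Fin n) := fun i j =>
      Finset.univ.filter fun x => (y (evPair i j)).1 x = 1
    have hf : ∀ i j, i ≠ j → f i j = {c i j, d i j} := by
      intro i j hij
      ext x
      simp only [f, Finset.mem_filter, Finset.mem_univ, true_and, he i j hij, evPair_apply,
        Finset.mem_insert, Finset.mem_singleton]
      by_cases hx : x = c i j
      · simp [hx, hcd i j hij]
      · by_cases hx' : x = d i j <;> simp [hx, hx', Ne.symm (hcd i j hij)]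
    have hpairsum : ∀ a b c' d' : Fin n, a ≠ b → c' ≠ d' → a ≠ c' → a ≠ d' → b ≠ c' → b ≠ d' →
        ∀ u v, u ≠ v → evPair a b + evPair c' d' ≠ evPair u v := by
      intro a b c' d' q1 q2 q3 q4 q5 q6 u v q7 e
      have hval : ∀ x, (x = a ∨ x = b ∨ x = c') → x = u ∨ x = v := fun x hx => by
        by_contra hxx
        simp only [not_or] at hxx
        have := congrFun (congrArg Subtype.val e) x
        change (evPair a b).1 x + (evPair c' d').1 x = _ at this
        simp only [evPair_apply, if_neg hxx.1, if_neg hxx.2] at this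
        rcases hx with rfl | rfl | rfl
        · simp [q1, q3, q4] at this
        · simp [q1.symm, q5, q6] at this
        · simp [q2, q3.symm, q5.symm] at this
      rcases hval a (.inl rfl) with r1 | r1 <;> rcases hval b (.inr (.inl rfl)) with r2 | r2 <;>
        rcases hval c' (.inr (.inr rfl)) with r3 | r3 <;>
        first | exact q1 (r1.trans r2.symm) | exact q3 (r1.trans r3.symm) | exact q5 (r2.trans r3.symm)
    obtain ⟨π, hπ⟩ := Para.perm_of_pairs h5 f
      (fun i j => by simp only [f, evPair_comm i j])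
      (fun i j hij => by rw [hf i j hij, Finset.card_pair (hcd i j hij)])
      (fun i j k l hij hkl e => by
        have e' : y (evPair i j) = y (evPair k l) := by
          refine Subtype.ext (funext fun x => ?_)
          have := Finset.ext_iff.1 e x
          simp only [f, Finset.mem_filter, Finset.mem_univ, true_and] at this
          rcases z2cases ((y (evPair i j)).1 x) with p1 | p1 <;> rcases z2cases ((y (evPair k l)).1 x) with p2 | p2 <;>
            simp_all
        exact evPair_eq hij (y.injective e'))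
      (fun i j k hij hik hjk => by
        rw [hf i j hij, hf i k hik]
        simp only [Finset.mem_insert, Finset.mem_singleton]
        by_contra hno
        push Not at hno
        have e : y (evPair i j) + y (evPair i k) = y (evPair j k) := by
          rw [← map_add, evPair_comm i j, evPair_add]
        rw [he i j hij, he i k hik, he j k hjk] at e
        have n1 := hno (c i j) (.inl rfl)
        have n2 := hno (d i j) (.inr rfl)
        exact hpairsum _ _ _ _ (hcd i j hij) (hcd i k hik) n1.1 n1.2 n2.1 n2.2 _ _ (hcd j k hjk) e)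
      (fun i j k l hij hkl q1 q2 q3 q4 a ha hb => by
        rw [hf i j hij] at ha
        rw [hf k l hkl] at hb
        simp only [Finset.mem_insert, Finset.mem_singleton] at ha hb
        obtain ⟨a', ha'⟩ : ∃ a', y (evPair i j) = evPair a a' ∧ a ≠ a' := by
          rcases ha with rfl | rfl
          · exact ⟨_, he i j hij, hcd i j hij⟩
          · exact ⟨_, (he i j hij).trans (evPair_comm _ _), (hcd i j hij).symm⟩
        obtain ⟨b', hb'⟩ : ∃ b', y (evPair k l) = evPair a b' ∧ a ≠ b' := by
          rcases hb with rfl | rfl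
          · exact ⟨_, he k l hkl, hcd k l hkl⟩
          · exact ⟨_, (he k l hkl).trans (evPair_comm _ _), (hcd k l hkl).symm⟩
        have hne : a' ≠ b' := fun e' => by
          rcases evPair_eq hij (y.injective (ha'.1.trans (e' ▸ hb'.1.symm))) with ⟨r, -⟩ | ⟨r, -⟩
          exacts [q1 r, q2 r]
        obtain ⟨u, v, huv, euv⟩ := h2 a' b' hne
        refine hpairsum i j k l hij hkl q1 q2 q3 q4 u v huv (y.injective ?_)
        rw [map_add, ha'.1, hb'.1, ← euv, AddEquiv.apply_symm_apply, evPair_comm a a', evPair_add])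
    refine ⟨π, fun a b hab => ?_⟩
    refine Subtype.ext (funext fun x => ?_)
    have := Finset.ext_iff.1 (hπ a b hab) x
    simp only [f, Finset.mem_filter, Finset.mem_univ, true_and, Finset.mem_insert, Finset.mem_singleton] at this
    have hne : π a ≠ π b := fun e => hab (π.injective e)
    rw [evPair_apply]
    by_cases hx : x = π a
    · rw [this.2 (.inl hx)]; subst hx; simp [hne]
    by_cases hx' : x = π b
    · rw [this.2 (.inr hx')]; subst hx'; simp [hne.symm]
    · rcases z2cases ((y (evPair a b)).1 x) with e | e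
      · rw [e, if_neg hx, if_neg hx', add_zero]
      · exact absurd (this.1 e) (by simp [hx, hx'])
  · obtain rfl : n = 3 := by
      rcases (show n = 3 ∨ n = 4 by omega) with h | h
      · exact h
      · subst h; exact absurd hodd (by decide)
    obtain ⟨c, d, hcd, e1⟩ := h1 0 1 (by decide)
    obtain ⟨c', d', hcd', e2⟩ := h1 0 2 (by decide)
    obtain ⟨a', b', c'', q1, q2, q3, q4, q5⟩ := pair_three c d c' d' hcd hcd' (fun h => by
      have e : evPair c d = evPair c' d' := by
        rcases h with ⟨r1, r2⟩ | ⟨r1, r2⟩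
        · rw [r1, r2]
        · rw [r1, r2, evPair_comm]
      rcases evPair_eq (by decide : (0 : Fin 3) ≠ 1) (y.injective (e1.trans (e.trans e2.symm))) with ⟨-, r⟩ | ⟨r, -⟩
      · exact absurd r (by decide)
      · exact absurd r (by decide))
    have hinj : Function.Injective ![a', b', c''] := by
      intro i j e
      fin_cases i <;> fin_cases j <;> simp_all
    obtain ⟨π, hπ0, hπ1, hπ2⟩ : ∃ π : Equiv.Perm (Fin 3), π 0 = a' ∧ π 1 = b' ∧ π 2 = c'' :=
      ⟨Equiv.ofBijective _ ⟨hinj, Finite.injective_iff_surjective.1 hinj⟩, rfl, rfl, rfl⟩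
    have eA' : y (evPair 0 1) = evPair (π 0) (π 1) := by
      rw [e1, hπ0, hπ1]
      rcases q4 with ⟨r1, r2⟩ | ⟨r1, r2⟩
      · rw [r1, r2]
      · rw [r1, r2, evPair_comm]
    have eB' : y (evPair 0 2) = evPair (π 0) (π 2) := by
      rw [e2, hπ0, hπ2]
      rcases q5 with ⟨r1, r2⟩ | ⟨r1, r2⟩
      · rw [r1, r2]
      · rw [r1, r2, evPair_comm]
    refine ⟨π, fun a b hab => ?_⟩
    have eA := eA'
    have eB := eB'
    have eC : y (evPair 1 2) = evPair (π 1) (π 2) := by
      rw [← evPair_add 1 0 2, map_add, evPair_comm 1 0, eA, eB, evPair_comm (π 0) (π 1), evPair_add]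
    fin_cases a <;> fin_cases b <;> first
      | exact absurd rfl hab
      | exact eA | exact eB | exact eC
      | exact (congrArg y (evPair_comm _ _)).trans (eA.trans (evPair_comm _ _))
      | exact (congrArg y (evPair_comm _ _)).trans (eB.trans (evPair_comm _ _))
      | exact (congrArg y (evPair_comm _ _)).trans (eC.trans (evPair_comm _ _))

/-- The bound for an elementary group normalising the symmetric group. -/
theorem perm_normaliser_bound {n : ℕ} (hn : 3 ≤ n) (hodd : (n : ZMod 2) = 1)
    (Y : Subgroup (Equiv.Perm ↥(evW n))) (hcomm : ∀ x ∈ Y, ∀ y ∈ Y, x * y = y * x)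
    (hadd : ∀ y ∈ Y, ∀ v w, y (v + w) = y v + y w)
    (hnorm : ∀ y ∈ Y, ∀ π, ∃ π', ∀ v, y (evAct π v) = evAct π' (y v)) :
    Nat.card ↥Y * Nat.card {v : ↥(evW n) // ∀ y ∈ Y, y v = v} ≤ Nat.card ↥(evW n) ∧
      ∀ y ∈ Y, ∃ π, ∀ v, y v = evAct π v := by
  classical
  have hperm : ∀ y : ↥Y, ∃ π, ∀ v, (y : Equiv.Perm ↥(evW n)) v = evAct π v := by
    rintro ⟨y, hy⟩
    refine perm_of_normalises hn hodd (AddEquiv.mk' y (hadd y hy)) (hnorm y hy) fun π => ?_
    exact hnorm _ (Y.inv_mem hy) π
  choose q hq using hperm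
  refine ⟨?_, fun y hy => ⟨_, hq ⟨y, hy⟩⟩⟩
  letI : CommGroup ↥Y :=
    { (inferInstance : Group ↥Y) with mul_comm := fun a b => Subtype.ext (hcomm a a.2 b b.2) }
  have huniq : ∀ {π σ : Equiv.Perm (Fin n)}, (∀ v, evAct π v = evAct σ v) → π = σ := fun {π σ} h =>
    (inv_mul_eq_one.1 (evAct_faithful hn fun v => by rw [evAct_mul, h, ← evAct_mul, inv_mul_cancel, evAct_one]
      : σ⁻¹ * π = 1)).symm
  let qh : ↥Y →* Equiv.Perm (Fin n) := MonoidHom.mk' q fun a b => huniq fun v => by
    rw [evAct_mul, ← hq, ← hq, ← hq]; rfl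
  let pa : Equiv.Perm (Fin n) →* Equiv.Perm (Fin n → ZMod 2) := MonoidHom.mk'
    (fun π => ⟨fun f i => f (π⁻¹ i), fun f i => f (π i), fun f => funext fun i => congrArg f (π.symm_apply_apply i),
      fun f => funext fun i => congrArg f (π.apply_symm_apply i)⟩)
    (fun π σ => Equiv.ext fun f => funext fun i => congrArg f (by simp [mul_inv_rev]))
  let ρ : ↥Y →* Equiv.Perm (Fin n → ZMod 2) := pa.comp qh
  have hρ : ∀ x f i, ρ x f (qh x i) = f i := fun x f i => congrArg f ((qh x).symm_apply_apply i)
  have hfaith : Function.Injective ρ := by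
    refine (injective_iff_map_eq_one ρ).2 fun x hx => Subtype.ext (Equiv.ext fun v => ?_)
    rw [hq x v]
    exact Subtype.ext (Equiv.ext_iff.1 hx v.1)
  have h := (orbit_bound (W := ZMod 2) ρ qh (fun x f f' i e => by rw [hρ, hρ, e]) hfaith (by simp) fun i => by
    have h1 : Nat.card {g : ZMod 2 → ZMod 2 // ∃ x, coord ρ qh x i g} ≤ 1 := by
      rw [Finite.card_le_one_iff_subsingleton]
      refine ⟨fun g g' => Subtype.ext ?_⟩
      have key : ∀ g : {g : ZMod 2 → ZMod 2 // ∃ x, coord ρ qh x i g}, g.1 = id := by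
        rintro ⟨g, x, hxi, hg⟩
        funext w
        have := hg fun _ => w
        conv_lhs at this => arg 3; rw [← hxi]
        rw [hρ] at this
        exact this.symm
      rw [key g, key g']
    refine le_trans (Nat.mul_le_mul h1 (Nat.card_le_card_of_injective _ Subtype.val_injective)) ?_
    rw [one_mul]).1
  rw [Nat.card_zmod, Fintype.card_fin] at h
  have hone : ∑ _i : Fin n, (1 : ZMod 2) = 1 := by
    rw [Finset.sum_const, Finset.card_univ, Fintype.card_fin, nsmul_eq_mul, mul_one, hodd]
  let sv : (Fin n → ZMod 2) → ZMod 2 := fun f => ∑ i, f i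
  have hev : ∀ f : Fin n → ZMod 2, (fun i => f i + sv f) ∈ evW n := fun f => by
    rw [mem_evW, Finset.sum_add_distrib, Finset.sum_const, Finset.card_univ, Fintype.card_fin, nsmul_eq_mul,
      hodd, one_mul]
    exact Para.z2_add_self _
  have hsv : ∀ (v : ↥(evW n)) (c : ZMod 2), sv (fun i => v.1 i + c) = c := fun v c => by
    show ∑ i, (v.1 i + c) = c
    rw [Finset.sum_add_distrib, show ∑ i, v.1 i = 0 from v.2, zero_add, Finset.sum_const, Finset.card_univ,
      Fintype.card_fin, nsmul_eq_mul, hodd, one_mul]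
  have hcard : Nat.card ↥(evW n) * 2 = 2 ^ n := by
    have h2z : Nat.card (ZMod 2) = 2 := Nat.card_zmod 2
    conv_lhs => arg 2; rw [← h2z]
    rw [← Nat.card_prod, show (2 : ℕ) ^ n = Nat.card (Fin n → ZMod 2) by simp]
    refine Nat.card_congr
      { toFun := fun vc => fun i => vc.1.1 i + vc.2
        invFun := fun f => (⟨_, hev f⟩, sv f)
        left_inv := ?_
        right_inv := ?_ }
    · rintro ⟨v, c⟩
      refine Prod.ext (Subtype.ext (funext fun i => ?_)) (hsv v c)
      show v.1 i + c + sv (fun i => v.1 i + c) = v.1 i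
      rw [hsv, add_assoc, Para.z2_add_self, add_zero]
    · intro f
      funext i
      show f i + sv f + sv f = f i
      rw [add_assoc, Para.z2_add_self, add_zero]
  refine Nat.le_of_mul_le_mul_right (c := 2) ?_ two_pos
  rw [hcard, mul_assoc]
  refine le_trans (Nat.mul_le_mul_left _ ?_) h
  have h2z : Nat.card (ZMod 2) = 2 := Nat.card_zmod 2
  conv_lhs => arg 2; rw [← h2z]
  rw [← Nat.card_prod]
  refine Nat.card_le_card_of_injective (fun vc => ⟨fun i => vc.1.1.1 i + vc.2, fun x => ?_⟩) ?_
  · funext i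
    show vc.1.1.1 ((qh x)⁻¹ i) + vc.2 = _
    congr 1
    exact congrFun (congrArg Subtype.val ((hq x vc.1.1).symm.trans (vc.1.2 _ x.2))) i
  · rintro ⟨v, c⟩ ⟨v', c'⟩ e
    have e' : (fun i => v.1.1 i + c) = fun i => v'.1.1 i + c' := congrArg Subtype.val e
    have ec : c = c' := by rw [← hsv v.1 c, e', hsv]
    subst ec
    exact Prod.ext (Subtype.ext (Subtype.ext (funext fun i => add_right_cancel (congrFun e' i)))) rfl

end Cfsg.Agent.H34.Star
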