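import Cfsg.Prelude.Def_BaumannBlocks
import Cfsg.Agent.H34.Thompson
import Cfsg.Agent.H34.Para.Setup
import Cfsg.Agent.H72.PCore
import Cfsg.Agent.H32.Basic
import Cfsg.Agent.H19.Basic
import Mathlib

/-!
A `p`-minimal group of characteristic `p` with `C**(G,T) ≠ G` acts faithfully, modulo the centraliser,
as a minimal parabolic with offenders on `Ω₁(Z(O_p(G)))`.
-/

set_option autoImplicit false
set_option linter.style.haveILetI false
set_option linter.unusedSectionVars false

namespace Cfsg.Agent.H34.Star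

open Subgroup
open Cfsg.Agent.H34.Para
open Cfsg.Agent.H34.MinOffender
open scoped commutatorElement

universe u

variable {G : Type u} [Group G]

/-- A representation of `G` together with translations by the normal subgroup `V`. -/
structure SemiRep (V : Subgroup G) (H : Type u) [Group H] where
  /-- The action. -/
  π : G →* H
  /-- The translations. -/
  θ : ↥V →* H
  inj : Function.Injective θ
  ker : π.ker = centralizer (V : Set G)
  conj : ∀ (g : G) (v : ↥V) (hv : g * v * g⁻¹ ∈ V), π g * θ v * (π g)⁻¹ = θ ⟨g * v * g⁻¹, hv⟩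

/-- The conjugation representation. -/
def semiRep (V : Subgroup G) [V.Normal] : SemiRep V (Equiv.Perm ↥V) where
  π := MonoidHom.mk'
    (fun g => ⟨fun v => ⟨g * v * g⁻¹, Normal.conj_mem inferInstance _ v.2 g⟩,
      fun v => ⟨g⁻¹ * v * g, by simpa using Normal.conj_mem (inferInstance : V.Normal) _ v.2 g⁻¹⟩,
      fun v => Subtype.ext (by simp [mul_assoc]), fun v => Subtype.ext (by simp [mul_assoc])⟩)
    (fun g k => Equiv.ext fun v => Subtype.ext (by simp [mul_assoc]))
  θ := MulAction.toPermHom ↥V ↥V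
  inj := fun a b e => by simpa using Equiv.ext_iff.1 e 1
  ker := by
    ext g
    rw [MonoidHom.mem_ker, mem_centralizer_iff]
    constructor
    · intro e v hv
      have := congrArg Subtype.val (Equiv.ext_iff.1 e ⟨v, hv⟩)
      change g * v * g⁻¹ = v at this
      conv_lhs => rw [← this]
      group
    · intro e
      refine Equiv.ext fun v => Subtype.ext ?_
      show g * v * g⁻¹ = v
      rw [← e v v.2, mul_inv_cancel_right]
  conj := fun g v hv => Equiv.ext fun x => Subtype.ext (by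
    simp [mul_assoc, smul_eq_mul])

variable [Finite G] {p : ℕ} [Fact p.Prime]

omit [Finite G] in
/-- `Ω₁(Z(O_p(G)))` is normal. -/
theorem omega_core_normal : (Cfsg.omegaOneCenter p (Cfsg.pCore p G)).Normal := by
  haveI := Cfsg.Agent.H72.pCore_normal (G := G) p
  refine ⟨fun x hx g => ?_⟩
  have h := map_omegaOne (p := p) (MulAut.conj g).toMonoidHom (MulAut.conj g).injective
    (Cfsg.pCore p G ⊓ centralizer (Cfsg.pCore p G : Set G))
  have e : (Cfsg.pCore p G ⊓ centralizer (Cfsg.pCore p G : Set G)).map (MulAut.conj g).toMonoidHom =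
      Cfsg.pCore p G ⊓ centralizer (Cfsg.pCore p G : Set G) :=
    by
    exact mem_normalizer_iff_map_conj_eq.1 ((normalizer_eq_top_iff.2
      (normal_inf_normal (Cfsg.pCore p G) (centralizer (Cfsg.pCore p G : Set G)))).ge (mem_top g))
  rw [e] at h
  exact h.le ⟨x, hx, rfl⟩

omit [Finite G] in
/-- `Ω₁(Z(X))` is elementary abelian. -/
theorem omega_elementary (X : Subgroup G) : Cfsg.IsElementaryAbelian p (Cfsg.omegaOneCenter p X) := by
  haveI := isMulCommutative_inf_centralizer X
  exact omegaOne_isElementaryAbelian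

omit [Finite G] in
theorem omega_le (X : Subgroup G) : Cfsg.omegaOneCenter p X ≤ X ⊓ centralizer (X : Set G) :=
  omegaOne_le _

variable (hmin : Cfsg.IsPMinimal p G) {T : Sylow p G} {M : Subgroup G} (hM : IsCoatom M)
  (hTM : (T : Subgroup G) ≤ M)
include hmin hM hTM

/-- A normal subgroup inside `M` meets `T` in `O_p(G)`. -/
theorem inf_le_pCore {N : Subgroup G} [N.Normal] (hN : N ≤ M) : (T : Subgroup G) ⊓ N ≤ Cfsg.pCore p G := by
  have hp : IsPGroup p ↥((T : Subgroup G) ⊓ N) := T.2.to_le inf_le_left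
  refine Cfsg.Agent.H72.le_pCore ?_ hp
  by_contra hn
  have hne : normalizer (((T : Subgroup G) ⊓ N : Subgroup G) : Set G) ≠ ⊤ :=
    fun e => hn (normalizer_eq_top_iff.1 e)
  have hTn : (T : Subgroup G) ≤ normalizer (((T : Subgroup G) ⊓ N : Subgroup G) : Set G) :=
    (le_inf le_normalizer ((normalizer_eq_top_iff.2 ‹N.Normal›).ge.trans' le_top)).trans inf_normalizer_le_normalizer_inf
  have hle := Cfsg.Agent.H74.pmin_le hmin hM hTM hTn hne
  refine hM.1 (top_le_iff.1 ?_)
  have hsyl : ∀ S : Sylow p ↥N, (S : Subgroup ↥N) = (T : Subgroup G).subgroupOf N →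
      normalizer ((((S : Subgroup ↥N).map N.subtype) : Subgroup G) : Set G) ⊔ N = ⊤ :=
    fun S _ => Sylow.normalizer_sup_eq_top S
  obtain ⟨S, hS⟩ : ∃ S : Sylow p ↥N, (S : Subgroup ↥N) = (T : Subgroup G).subgroupOf N :=
    Cfsg.Agent.H44.exists_sylow_eq_subgroupOf T N
  have h2 := hsyl S hS
  rw [hS, subgroupOf_map_subtype] at h2
  rw [← h2]
  exact sup_le hle hN

/-- The centraliser of `Ω₁(Z(O_p(G)))` and `C**(G,T)` lie in `M`. -/
theorem starstar_le (hne : Cfsg.cStarStarOf p (T : Subgroup G) ≠ ⊤) :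
    Cfsg.cStarStarOf p (T : Subgroup G) ≤ M := by
  refine Cfsg.Agent.H74.pmin_le hmin hM hTM (fun t ht => le_sup_left (a := centralizer _) ?_) hne
  exact mem_centralizer_iff.2 fun z hz =>
    ((mem_centralizer_iff.1 ((omega_le _) hz).2 t ht)).symm

omit hmin hM hTM in
/-- `Ω₁(Z(T))` lies in `Ω₁(Z(O_p(G)))`. -/
theorem omega_sylow_le (hG : centralizer (Cfsg.pCore p G : Set G) ≤ Cfsg.pCore p G) :
    Cfsg.omegaOneCenter p (T : Subgroup G) ≤ Cfsg.omegaOneCenter p (Cfsg.pCore p G) := by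
  refine Subgroup.closure_mono ?_
  rintro x ⟨hx, hxp⟩
  have hc : x ∈ centralizer (Cfsg.pCore p G : Set G) :=
    centralizer_le (SetLike.coe_subset_coe.2 (Cfsg.Agent.H72.pCore_le_sylow T)) hx.2
  exact ⟨⟨hG hc, hc⟩, hxp⟩

omit hmin hM hTM in
theorem cent_le_starstar (hG : centralizer (Cfsg.pCore p G : Set G) ≤ Cfsg.pCore p G) :
    centralizer (Cfsg.omegaOneCenter p (Cfsg.pCore p G) : Set G) ≤ Cfsg.cStarStarOf p (T : Subgroup G) :=
  (centralizer_le (SetLike.coe_subset_coe.2 (omega_sylow_le hG))).trans le_sup_left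

/-- Some elementary abelian subgroup of largest order moves `Ω₁(Z(O_p(G)))`. -/
theorem exists_max_moving (hG : centralizer (Cfsg.pCore p G : Set G) ≤ Cfsg.pCore p G)
    (hne : Cfsg.cStarStarOf p (T : Subgroup G) ≠ ⊤) :
    ∃ A ∈ Cfsg.maxElementaryAbelianSubgroups p G,
      ¬ A ≤ centralizer (Cfsg.omegaOneCenter p (Cfsg.pCore p G) : Set G) := by
  by_contra hcon
  push Not at hcon
  haveI := omega_core_normal (G := G) (p := p)
  haveI := Cfsg.Agent.H72.pCore_normal (G := G) p
  set C := centralizer (Cfsg.omegaOneCenter p (Cfsg.pCore p G) : Set G)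
  haveI : C.Normal := inferInstance
  have hCM : C ≤ M := (cent_le_starstar hG).trans (starstar_le hmin hM hTM hne)
  have h1 : Cfsg.thompsonSubgroupOf p (T : Subgroup G) ≤ Cfsg.pCore p G := by
    rw [thompsonSubgroupOf_sylow]
    exact sSup_le fun B hB => (le_inf hB.1 (hcon B hB.2)).trans (inf_le_pCore hmin hM hTM hCM)
  have h2 := thompsonSubgroupOf_eq_of_le h1 (Cfsg.Agent.H72.pCore_le_sylow T)
  refine hne (top_le_iff.1 ?_)
  have h3 : (⊤ : Subgroup G) ≤ normalizer (Cfsg.thompsonSubgroupOf p (T : Subgroup G) : Set G) := by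
    rw [← h2]
    exact (normalizer_eq_top_iff.2 inferInstance).ge.trans (normalizer_le_normalizer_thompson _)
  exact h3.trans le_sup_right

variable {H : Type u} [Group H] [Finite H]

/-- The faithful image satisfies the hypotheses of the structure theorems. -/
theorem ffp_of_rep (hG : centralizer (Cfsg.pCore p G : Set G) ≤ Cfsg.pCore p G)
    (hne : Cfsg.cStarStarOf p (T : Subgroup G) ≠ ⊤)
    {V : Subgroup G} [V.Normal] (hV : V = Cfsg.omegaOneCenter p (Cfsg.pCore p G)) (R : SemiRep V H) :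
    FFP p R.θ.range R.π.range ((T : Subgroup G).map R.π) (M.map R.π) := by
  have hVea := omega_elementary (G := G) (p := p) (Cfsg.pCore p G)
  rw [← hV] at hVea
  haveI := hVea.1
  have hkerM : R.π.ker ≤ M := by
    rw [R.ker, hV]
    exact (cent_le_starstar hG).trans (starstar_le hmin hM hTM hne)
  have hTp : IsPGroup p ↥((T : Subgroup G).map R.π) := T.2.map _
  have hsylmax : ∀ Q : Subgroup H, Q ≤ R.π.range → IsPGroup p ↥Q → (T : Subgroup G).map R.π ≤ Q →
      Q = (T : Subgroup G).map R.π := by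
    intro Q hQ hQp hTQ
    have hmap : (Sylow.mapSurjective R.π.rangeRestrict_surjective T : Subgroup ↥R.π.range) =
        (T : Subgroup G).map R.π.rangeRestrict := rfl
    have hle : (T : Subgroup G).map R.π.rangeRestrict ≤ Q.subgroupOf R.π.range := by
      rintro _ ⟨t, ht, rfl⟩; exact hTQ ⟨t, ht, rfl⟩
    have e := (Sylow.mapSurjective R.π.rangeRestrict_surjective T).is_maximal'
      (hQp.of_equiv (subgroupOfEquivOfLe hQ).symm) hle
    rw [hmap] at e
    conv_lhs => rw [← map_subgroupOf_eq_of_le hQ, e, map_map]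
    rfl
  refine
    { comm := ?_, expV := ?_, hPV := ?_, faith := ?_,
      pm :=
        { hTM := map_mono hTM, hMP := map_le_range _ _, hne := ?_, Tp := hTp, syl := hsylmax, max := ?_ }
      op1 := ?_, hz := ?_ }
  · rintro _ ⟨a, rfl⟩ _ ⟨b, rfl⟩
    rw [← map_mul, ← map_mul, mul_comm' a b]
  · rintro _ ⟨a, rfl⟩
    rw [← map_pow, show a ^ p = 1 from Subtype.ext (by simpa using hVea.2 a a.2), map_one]
  · rintro _ ⟨g, rfl⟩
    refine mem_normalizer_of_cj_eq (eq_of_le_of_card_ge ?_ (card_cj _ _).ge)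
    rintro _ ⟨_, ⟨v, rfl⟩, rfl⟩
    exact ⟨⟨g * v * g⁻¹, Normal.conj_mem inferInstance _ v.2 g⟩, (R.conj g v _).symm⟩
  · rw [eq_bot_iff]
    rintro _ ⟨⟨g, rfl⟩, hc⟩
    rw [mem_bot, ← MonoidHom.mem_ker, R.ker, mem_centralizer_iff]
    intro v hv
    have e := R.conj g ⟨v, hv⟩ (Normal.conj_mem inferInstance _ hv g)
    rw [← mem_centralizer_iff.1 hc _ ⟨_, rfl⟩, mul_inv_cancel_right] at e
    have e' := congrArg Subtype.val (R.inj e)
    change v = g * v * g⁻¹ at e'
    conv_lhs => rw [e']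
    group
  · intro e
    refine hM.1 ?_
    have := congrArg (Subgroup.comap R.π) e
    rwa [comap_map_eq_self hkerM, show R.π.range.comap R.π = ⊤ from
      top_le_iff.1 fun g _ => ⟨g, rfl⟩] at this
  · intro X hX hTX hXne
    have h1 : X.comap R.π ≠ ⊤ := fun e => hXne (le_antisymm hX fun y hy => by
      obtain ⟨g, rfl⟩ := hy
      exact e.ge (mem_top g))
    have h2 := Cfsg.Agent.H74.pmin_le hmin hM hTM
      (fun t ht => show R.π t ∈ X from hTX ⟨t, ht, rfl⟩) h1
    rw [← map_comap_eq_self hX]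
    exact map_mono h2
  · intro K hK hKp hKn
    have hKT : K ⊔ (T : Subgroup G).map R.π = (T : Subgroup G).map R.π :=
      hsylmax _ (sup_le hK (map_le_range _ _))
        (hKp.to_sup_of_normal_left' hTp ((map_le_range _ _).trans hKn)) le_sup_right
    have hKT' : K ≤ (T : Subgroup G).map R.π := le_sup_left.trans hKT.le
    haveI : (K.comap R.π).Normal := ⟨fun x hx g => by
      show R.π (g * x * g⁻¹) ∈ K
      rw [map_mul, map_mul, map_inv]
      exact Cfsg.Agent.H34.conj_mem_of_mem_normalizer (hKn ⟨g, rfl⟩) hx⟩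
    have hle : K.comap R.π ≤ M := fun x hx => by
      obtain ⟨t, ht, e⟩ := hKT' hx
      have h1 : t⁻¹ * x ∈ M := hkerM (by rw [MonoidHom.mem_ker, map_mul, map_inv, e, inv_mul_cancel])
      simpa using M.mul_mem (hTM ht) h1
    rw [eq_bot_iff]
    intro y hy
    obtain ⟨t, ht, rfl⟩ := hKT' hy
    have htQ := inf_le_pCore hmin hM hTM hle ⟨ht, hy⟩
    rw [mem_bot, ← MonoidHom.mem_ker, R.ker]
    exact mem_centralizer_iff.2 fun v hv => (mem_centralizer_iff.1 ((omega_le _) (hV.le hv)).2 t htQ).symm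
  · by_contra hcon
    push Not at hcon
    refine hne (top_le_iff.1 fun g _ => le_sup_left (a := centralizer _) (mem_centralizer_iff.2 fun z hz => ?_))
    have hzV : z ∈ V := hV.ge (omega_sylow_le hG hz)
    have hzc := mem_centralizer_iff.1 (hcon (R.θ ⟨z, hzV⟩) ⟨_, rfl⟩ ?_) (R.π g) ⟨g, rfl⟩
    · have e := R.conj g ⟨z, hzV⟩ (Normal.conj_mem inferInstance _ hzV g)
      rw [hzc, mul_inv_cancel_right] at e
      have e' := congrArg Subtype.val (R.inj e)
      change z = g * z * g⁻¹ at e'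
      conv_lhs => rw [e']
      group
    · rw [mem_centralizer_iff]
      rintro _ ⟨t, ht, rfl⟩
      have e := R.conj t ⟨z, hzV⟩ (Normal.conj_mem inferInstance _ hzV t)
      have ht' : t * z * t⁻¹ = z := by
        rw [mem_centralizer_iff.1 ((omega_le _) hz).2 t ht, mul_inv_cancel_right]
      rw [show (⟨t * z * t⁻¹, Normal.conj_mem inferInstance _ hzV t⟩ : ↥V) = ⟨z, hzV⟩ from Subtype.ext ht',
        mul_inv_eq_iff_eq_mul] at e
      exact e

omit hmin hM hTM in
/-- The image of an elementary abelian subgroup of largest order is large. -/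
theorem max_image_large {V : Subgroup G} [V.Normal] (hV : V = Cfsg.omegaOneCenter p (Cfsg.pCore p G))
    (R : SemiRep V H) {A : Subgroup G}
    (hA : A ∈ Cfsg.maxElementaryAbelianSubgroups p G) :
    (∀ a ∈ A.map R.π, ∀ b ∈ A.map R.π, a * b = b * a) ∧ (∀ a ∈ A.map R.π, a ^ p = 1) ∧
      Nat.card R.θ.range ≤
        Nat.card ↥(A.map R.π) * Nat.card ↥(R.θ.range ⊓ centralizer (A.map R.π : Set H)) := by
  have hVea := omega_elementary (G := G) (p := p) (Cfsg.pCore p G)
  rw [← hV] at hVea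
  have hAm := isElementaryAbelian_map hA.1 R.π
  refine ⟨fun a ha b hb => haveI := hAm.1; setLike_mul_comm (s := A.map R.π) ha hb, hAm.2, ?_⟩
  set C := centralizer (V : Set G)
  have hB := isElementaryAbelian_sup (isElementaryAbelian_mono hA.1 (inf_le_left : A ⊓ C ≤ A)) hVea inf_le_right
  have h1 : Nat.card ↥(A ⊓ C ⊔ V) ≤ Nat.card ↥A := hA.2 _ hB
  have h2 := Cfsg.Agent.H32.card_sup_mul_card_inf (A ⊓ C) V
  have h3 : Nat.card ↥A = Nat.card ↥(A.map R.π) * Nat.card ↥(A ⊓ C) := by
    have e1 := Subgroup.relIndex_ker (K := A) R.π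
    rw [R.ker, ← Subgroup.inf_relIndex_left] at e1
    have e2 := Subgroup.relIndex_mul_relIndex (⊥ : Subgroup G) (A ⊓ C) A bot_le inf_le_left
    rw [relIndex_bot_left, relIndex_bot_left] at e2
    rw [← e2, e1, mul_comm]
  have h4 : Nat.card ↥(A ⊓ C ⊓ V) ≤ Nat.card ↥(R.θ.range ⊓ centralizer (A.map R.π : Set H)) := by
    refine Nat.card_le_card_of_injective (fun a => ⟨R.θ ⟨a, a.2.2⟩, ⟨⟨_, rfl⟩, ?_⟩⟩) fun a b e => ?_
    · show R.θ _ ∈ centralizer (A.map R.π : Set H)
      rw [mem_centralizer_iff]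
      rintro _ ⟨x, hx, rfl⟩
      have e := R.conj x ⟨a, a.2.2⟩ (Normal.conj_mem inferInstance _ a.2.2 x)
      have hxa : x * a * x⁻¹ = a := by
        haveI := hA.1.1
        rw [setLike_mul_comm (s := A) hx a.2.1.1, mul_inv_cancel_right]
      rw [show (⟨x * a * x⁻¹, Normal.conj_mem inferInstance _ a.2.2 x⟩ : ↥V) = ⟨a, a.2.2⟩ from
        Subtype.ext hxa, mul_inv_eq_iff_eq_mul] at e
      exact e
    · exact Subtype.ext (congrArg (fun v : ↥V => (v : G)) (R.inj (congrArg Subtype.val e)))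
  have hcard : Nat.card R.θ.range = Nat.card ↥V := Nat.card_range_of_injective R.inj
  rw [hcard]
  refine Nat.le_of_mul_le_mul_right ?_ (Nat.card_pos (α := ↥(A ⊓ C)))
  calc Nat.card ↥V * Nat.card ↥(A ⊓ C) = Nat.card ↥(A ⊓ C ⊔ V) * Nat.card ↥(A ⊓ C ⊓ V) := by
        rw [h2, mul_comm]
    _ ≤ Nat.card ↥A * Nat.card ↥(R.θ.range ⊓ centralizer (A.map R.π : Set H)) := Nat.mul_le_mul h1 h4
    _ = _ := by rw [h3]; ring

end Cfsg.Agent.H34.Star
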