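import Cfsg.Agent.H34.Star.Faithful
import Mathlib

/-!
From the components of the faithful image back to the group.
-/

set_option autoImplicit false
set_option linter.style.haveILetI false
set_option linter.unusedSectionVars false

namespace Cfsg.Agent.H34.Star

open Subgroup
open scoped commutatorElement

universe u

variable {G : Type u} [Group G] {H : Type u} [Group H] {V : Subgroup G} [V.Normal] (R : SemiRep V H)

theorem SemiRep.cent_iff (E : Subgroup G) (v : ↥V) :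
    R.θ v ∈ centralizer (E.map R.π : Set H) ↔ (v : G) ∈ centralizer (E : Set G) := by
  simp only [mem_centralizer_iff]
  constructor
  · intro hc e he
    have h1 := R.conj e v (Normal.conj_mem inferInstance _ v.2 e)
    rw [hc _ ⟨e, he, rfl⟩, mul_inv_cancel_right] at h1
    have h2 := congrArg Subtype.val (R.inj h1)
    change (v : G) = e * v * e⁻¹ at h2
    conv_rhs => rw [h2]
    group
  · rintro hc _ ⟨e, he, rfl⟩
    have h1 := R.conj e v (Normal.conj_mem inferInstance _ v.2 e)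
    rw [show (⟨e * v * e⁻¹, Normal.conj_mem inferInstance _ v.2 e⟩ : ↥V) = v from
      Subtype.ext (show e * (v : G) * e⁻¹ = v by rw [hc e he, mul_inv_cancel_right]), mul_inv_eq_iff_eq_mul] at h1
    exact h1

theorem SemiRep.comm_eq (g : G) (v : ↥V) :
    ⁅R.θ v, R.π g⁆ = R.θ ⟨⁅(v : G), g⁆, by
      rw [commutatorElement_def, mul_assoc, mul_assoc, ← mul_assoc g]
      exact V.mul_mem v.2 (Normal.conj_mem inferInstance _ (V.inv_mem v.2) g)⟩ := by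
  have h1 := R.conj g v⁻¹ (Normal.conj_mem inferInstance _ (V.inv_mem v.2) g)
  rw [commutatorElement_def, mul_assoc, mul_assoc, ← mul_assoc (R.π g), ← map_inv R.θ, h1, ← map_mul]
  exact congrArg R.θ (Subtype.ext (by simp [commutatorElement_def, mul_assoc]))

theorem SemiRep.comm_iff (E : Subgroup G) (v : ↥V) :
    R.θ v ∈ ⁅R.θ.range, E.map R.π⁆ ↔ (v : G) ∈ ⁅V, E⁆ := by
  constructor
  · intro hv
    have hle : ⁅R.θ.range, E.map R.π⁆ ≤ (⁅V, E⁆.subgroupOf V).map R.θ := by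
      refine commutator_le.2 ?_
      rintro _ ⟨w, rfl⟩ _ ⟨e, he, rfl⟩
      rw [R.comm_eq]
      exact ⟨_, commutator_mem_commutator w.2 he, rfl⟩
    obtain ⟨w, hw, e⟩ := hle hv
    exact R.inj e ▸ hw
  · intro hv
    have hle : ⁅V, E⁆ ≤ ((⁅R.θ.range, E.map R.π⁆).comap R.θ).map V.subtype := by
      refine commutator_le.2 fun w hw e he => ⟨⟨⁅w, e⁆, commutator_le_left V E (commutator_mem_commutator hw he)⟩, ?_, rfl⟩
      have hh := commutator_mem_commutator (H₁ := R.θ.range) (H₂ := E.map R.π)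
        ⟨(⟨w, hw⟩ : ↥V), rfl⟩ (mem_map_of_mem R.π he)
      rw [R.comm_eq] at hh
      exact hh
    obtain ⟨w, hw, e⟩ := hle hv
    obtain rfl : w = v := Subtype.ext e
    exact hw

/-- The bijection between the commutator subgroups. -/
theorem SemiRep.exists_comm_hom (E : Subgroup G) :
    ∃ φ : ↥⁅V, E⁆ →* ↥⁅R.θ.range, E.map R.π⁆, Function.Surjective φ ∧
      (∀ u : ↥⁅V, E⁆, ∃ hu : (u : G) ∈ V, (φ u : H) = R.θ ⟨u, hu⟩) := by
  have hUV : ⁅V, E⁆ ≤ V := commutator_le_left V E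
  refine ⟨MonoidHom.mk' (fun u => ⟨R.θ ⟨u, hUV u.2⟩, (R.comm_iff E _).2 u.2⟩)
    (fun a b => Subtype.ext (map_mul R.θ ⟨(a : G), hUV a.2⟩ ⟨(b : G), hUV b.2⟩)), ?_, fun u => ⟨hUV u.2, rfl⟩⟩
  rintro ⟨x, hx⟩
  have hle : ⁅R.θ.range, E.map R.π⁆ ≤ (⁅V, E⁆.subgroupOf V).map R.θ := by
    refine commutator_le.2 ?_
    rintro _ ⟨w, rfl⟩ _ ⟨e, he, rfl⟩
    rw [R.comm_eq]
    exact ⟨_, commutator_mem_commutator w.2 he, rfl⟩
  obtain ⟨w, hw, rfl⟩ := hle hx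
  exact ⟨⟨w, hw⟩, rfl⟩

theorem SemiRep.quot_iso (E : Subgroup G) {S : Type*} [Group S] (h : Nonempty (↥(E.map R.π) ≃* S)) :
    ∃ _ : ((centralizer (V : Set G)).subgroupOf E).Normal,
      Nonempty (↥E ⧸ (centralizer (V : Set G)).subgroupOf E ≃* S) := by
  obtain ⟨e⟩ := h
  refine ⟨inferInstance, ⟨(QuotientGroup.quotientMulEquivOfEq ?_).trans
    ((QuotientGroup.quotientKerEquivOfSurjective (R.π.subgroupMap E)
      (R.π.subgroupMap_surjective E)).trans e)⟩⟩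
  ext x
  rw [mem_subgroupOf, ← R.ker, MonoidHom.mem_ker, MonoidHom.mem_ker, Subtype.ext_iff]
  rfl

theorem SemiRep.acts_sl2 (E : Subgroup G) {F : Type*} [Field F]
    (h : Cfsg.ActsAsSL2OnSection F ⊤ (E.map R.π) ⁅R.θ.range, E.map R.π⁆
      (⁅R.θ.range, E.map R.π⁆ ⊓ centralizer ((E.map R.π : Subgroup H) : Set H))) :
    Cfsg.ActsAsSL2OnSection F ⊤ E ⁅V, E⁆ (⁅V, E⁆ ⊓ centralizer (E : Set G)) := by
  obtain ⟨-, -, ρ, ψ, hρ, hψs, hψk, hψa⟩ := h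
  obtain ⟨φ, hφs, hφ⟩ := R.exists_comm_hom E
  have hnorm : E ≤ normalizer ((⁅V, E⁆ : Subgroup G) : Set G) := by
    exact normalizer_commutator_ge_right V E
  refine ⟨hnorm, inf_le_left, ρ.comp (R.π.subgroupMap E), ψ.comp φ, ?_, hψs.comp hφs, fun u => ?_,
    fun e u => ?_⟩
  · exact MonoidHom.range_eq_top.2 ((MonoidHom.range_eq_top.1 hρ).comp (R.π.subgroupMap_surjective E))
  · obtain ⟨hu, hu'⟩ := hφ u
    rw [MonoidHom.comp_apply, hψk, hu', mem_inf, mem_inf, R.comm_iff, R.cent_iff]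
  · obtain ⟨w, hw, hwa⟩ := hψa (R.π.subgroupMap E e) (φ u)
    obtain ⟨hu, hu'⟩ := hφ u
    refine ⟨⟨_, conj_mem_of_mem_normalizer (hnorm e.2) u.2⟩, rfl, ?_⟩
    obtain ⟨hu1, hu1'⟩ := hφ ⟨_, conj_mem_of_mem_normalizer (hnorm e.2) u.2⟩
    simp only [MonoidHom.comp_apply]
    rw [← hwa]
    refine congrArg (fun x => Multiplicative.toAdd (ψ x)) (Subtype.ext ?_)
    rw [hu1', hw, hu']
    exact (R.conj e ⟨u, hu⟩ hu1).symm

theorem SemiRep.acts_perm (E : Subgroup G) {n : ℕ}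
    (h : Cfsg.ActsAsOddPermModuleOnSection n ⊤ (E.map R.π) ⁅R.θ.range, E.map R.π⁆
      (⁅R.θ.range, E.map R.π⁆ ⊓ centralizer ((E.map R.π : Subgroup H) : Set H))) :
    Cfsg.ActsAsOddPermModuleOnSection n ⊤ E ⁅V, E⁆ (⁅V, E⁆ ⊓ centralizer (E : Set G)) := by
  obtain ⟨-, -, ρ, ψ, hρ, hsum, hψs, hψk, hψa⟩ := h
  obtain ⟨φ, hφs, hφ⟩ := R.exists_comm_hom E
  have hnorm : E ≤ normalizer ((⁅V, E⁆ : Subgroup G) : Set G) := by
    exact normalizer_commutator_ge_right V E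
  refine ⟨hnorm, inf_le_left, ρ.comp (R.π.subgroupMap E), ψ.comp φ, ?_, fun u => hsum _, fun v hv => ?_,
    fun u => ?_, fun e u => ?_⟩
  · exact MonoidHom.range_eq_top.2 ((MonoidHom.range_eq_top.1 hρ).comp (R.π.subgroupMap_surjective E))
  · obtain ⟨u', hu'⟩ := hψs v hv
    obtain ⟨u, rfl⟩ := hφs u'
    exact ⟨u, hu'⟩
  · obtain ⟨hu, hu'⟩ := hφ u
    rw [MonoidHom.comp_apply, hψk, hu', mem_inf, mem_inf, R.comm_iff, R.cent_iff]
  · obtain ⟨w, hw, hwa⟩ := hψa (R.π.subgroupMap E e) (φ u)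
    obtain ⟨hu, hu'⟩ := hφ u
    refine ⟨⟨_, conj_mem_of_mem_normalizer (hnorm e.2) u.2⟩, rfl, fun i => ?_⟩
    obtain ⟨hu1, hu1'⟩ := hφ ⟨_, conj_mem_of_mem_normalizer (hnorm e.2) u.2⟩
    simp only [MonoidHom.comp_apply]
    rw [← hwa i]
    refine congrArg (fun x => Multiplicative.toAdd (ψ x) i) (Subtype.ext ?_)
    rw [hu1', hw, hu']
    exact (R.conj e ⟨u, hu⟩ hu1).symm

/-- The components of the group from those of the image. -/
theorem assemble (p : ℕ) {T J : Subgroup G} {r : ℕ} (hr : 1 ≤ r) (Eb : Fin r → Subgroup H)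
    (hEP : ∀ i, Eb i ≤ R.π.range) (hcomm : ∀ i j, i ≠ j → ⁅Eb i, Eb j⁆ = ⊥)
    (hdirect : ∀ i, Eb i ⊓ (⨆ j ∈ {j | j ≠ i}, Eb j) = ⊥) (hsup : (⨆ i, Eb i) ⊔ T.map R.π = R.π.range)
    (hconj : ∀ i j, ∃ t ∈ T.map R.π, (Eb i).map (MulAut.conj t).toMonoidHom = Eb j)
    (hdec : (R.θ.range ⊓ centralizer (((⨆ i, Eb i) : Subgroup H) : Set H)) ⊔ (⨆ i, ⁅R.θ.range, Eb i⁆) = R.θ.range)
    (hcross : ∀ i j, i ≠ j → ⁅⁅R.θ.range, Eb i⁆, Eb j⁆ = ⊥) (hJ : (⨆ i, Eb i) = J.map R.π)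
    (hper : ∀ i, ∃ n : ℕ, 1 ≤ n ∧
      ((∃ (F : Type) (_ : Field F) (_ : Fintype F), Fintype.card F = p ^ n ∧
          Nonempty (↥(Eb i) ≃* Matrix.SpecialLinearGroup (Fin 2) F) ∧
          Cfsg.ActsAsSL2OnSection F ⊤ (Eb i) ⁅R.θ.range, Eb i⁆
            (⁅R.θ.range, Eb i⁆ ⊓ centralizer ((Eb i : Subgroup H) : Set H))) ∨
        (p = 2 ∧ Nonempty (↥(Eb i) ≃* Equiv.Perm (Fin (2 ^ n + 1))) ∧
          Cfsg.ActsAsOddPermModuleOnSection (2 ^ n + 1) ⊤ (Eb i) ⁅R.θ.range, Eb i⁆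
            (⁅R.θ.range, Eb i⁆ ⊓ centralizer ((Eb i : Subgroup H) : Set H))))) :
    ∃ (r : ℕ) (E : Fin r → Subgroup G), (∀ i, centralizer (V : Set G) ≤ E i) ∧
      J ⊔ T ⊔ centralizer (V : Set G) = ⊤ ∧ (⨆ i, E i) = J ⊔ centralizer (V : Set G) ∧
      (∀ i j, i ≠ j → ⁅E i, E j⁆ ≤ centralizer (V : Set G)) ∧
      (∀ i, E i ⊓ (⨆ j ∈ {j | j ≠ i}, E j) ≤ centralizer (V : Set G)) ∧
      (∀ i j, ∃ t ∈ T, (E i).map (MulAut.conj t).toMonoidHom = E j) ∧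
      (V ⊓ centralizer ((⨆ i, E i : Subgroup G) : Set G)) ⊔ (⨆ i, ⁅V, E i⁆) = V ∧
      (∀ i j, i ≠ j → ⁅⁅V, E i⁆, E j⁆ = ⊥) ∧
      ∀ i, ∃ n : ℕ, 1 ≤ n ∧
      ((∃ (F : Type) (_ : Field F) (_ : Fintype F), Fintype.card F = p ^ n ∧
          (∃ _ : ((centralizer (V : Set G)).subgroupOf (E i)).Normal,
            Nonempty (↥(E i) ⧸ (centralizer (V : Set G)).subgroupOf (E i) ≃* Matrix.SpecialLinearGroup (Fin 2) F)) ∧
          Cfsg.ActsAsSL2OnSection F ⊤ (E i) ⁅V, E i⁆ (⁅V, E i⁆ ⊓ centralizer ((E i : Subgroup G) : Set G))) ∨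
        (p = 2 ∧ (∃ _ : ((centralizer (V : Set G)).subgroupOf (E i)).Normal,
            Nonempty (↥(E i) ⧸ (centralizer (V : Set G)).subgroupOf (E i) ≃* Equiv.Perm (Fin (2 ^ n + 1)))) ∧
          Cfsg.ActsAsOddPermModuleOnSection (2 ^ n + 1) ⊤ (E i) ⁅V, E i⁆
            (⁅V, E i⁆ ⊓ centralizer ((E i : Subgroup G) : Set G)))) := by
  set C := centralizer (V : Set G)
  have hkC : R.π.ker = C := R.ker
  let E : Fin r → Subgroup G := fun i => (Eb i).comap R.π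
  have hEmap : ∀ i, (E i).map R.π = Eb i := fun i => map_comap_eq_self (hEP i)
  have hCE : ∀ i, C ≤ E i := fun i => hkC ▸ ker_le_comap R.π (Eb i)
  have hsmap : (⨆ i, E i).map R.π = ⨆ i, Eb i := by rw [Subgroup.map_iSup]; exact iSup_congr hEmap
  have hker_le : R.π.ker ≤ ⨆ i, E i := hkC.le.trans ((hCE ⟨0, hr⟩).trans (le_iSup E _))
  have hkJ : R.π.ker ≤ J ⊔ C := hkC.le.trans le_sup_right
  have hCbot : C.map R.π = ⊥ := by rw [Subgroup.map_eq_bot_iff, hkC]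
  have hUeq : (⨆ i, E i) = J ⊔ C := by
    rw [← comap_map_eq_self hker_le, ← comap_map_eq_self hkJ, hsmap, hJ, Subgroup.map_sup, hCbot, sup_bot_eq]
  refine ⟨r, E, hCE, ?_, hUeq, fun i j hij => ?_, fun i => ?_, fun i j => ?_, ?_, fun i j hij => ?_, fun i => ?_⟩
  · refine top_le_iff.1 ?_
    rw [← comap_map_eq_self (show R.π.ker ≤ J ⊔ T ⊔ C from hkC.le.trans le_sup_right), Subgroup.map_sup,
      Subgroup.map_sup, hCbot, sup_bot_eq, ← hJ, hsup]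
    exact fun g _ => ⟨g, rfl⟩
  · rw [← hkC, ← Subgroup.map_eq_bot_iff, Subgroup.map_commutator, hEmap, hEmap]
    exact hcomm i j hij
  · rw [← hkC]
    intro x hx
    rw [MonoidHom.mem_ker, ← mem_bot, ← hdirect i]
    refine ⟨hx.1, ?_⟩
    have h2 := mem_map_of_mem R.π hx.2
    rw [Subgroup.map_iSup] at h2
    simp only [Subgroup.map_iSup, hEmap] at h2
    exact h2
  · obtain ⟨_, ⟨t, ht, rfl⟩, ht'⟩ := hconj i j
    refine ⟨t, ht, ?_⟩
    ext x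
    rw [show E j = (Eb j).comap R.π from rfl, ← ht', mem_map_equiv, mem_comap, mem_comap, mem_map_equiv]
    simp [MulAut.conj_symm_apply]
  · refine le_antisymm (sup_le inf_le_left (iSup_le fun i => commutator_le_left V _)) fun v hv => ?_
    let D := (V ⊓ centralizer ((⨆ i, E i : Subgroup G) : Set G)) ⊔ (⨆ i, ⁅V, E i⁆)
    have hle : R.θ.range ≤ (D.subgroupOf V).map R.θ := by
      conv_lhs => rw [← hdec]
      refine sup_le ?_ (iSup_le fun i => ?_)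
      · rintro _ ⟨⟨w, rfl⟩, hw⟩
        rw [← hsmap] at hw
        exact ⟨w, mem_sup_left (show (w : G) ∈ V ⊓ centralizer ((⨆ i, E i : Subgroup G) : Set G) from
          ⟨w.2, (R.cent_iff _ w).1 hw⟩), rfl⟩
      · rw [← hEmap]
        intro x hx
        obtain ⟨φ, hφs, hφ⟩ := R.exists_comm_hom (E i)
        obtain ⟨u, hu⟩ := hφs ⟨x, hx⟩
        obtain ⟨huV, hu'⟩ := hφ u
        exact ⟨⟨u, huV⟩, mem_sup_right (le_iSup (fun i => ⁅V, E i⁆) i u.2), by rw [← hu', hu]⟩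
    obtain ⟨w, hw, e⟩ := hle ⟨⟨v, hv⟩, rfl⟩
    rw [R.inj e] at hw
    exact hw
  · rw [commutator_eq_bot_iff_le_centralizer]
    intro x hx
    have hxV := commutator_le_left V (E i) hx
    have h1 := (R.comm_iff (E i) ⟨x, hxV⟩).2 hx
    rw [hEmap] at h1
    have h2 := commutator_eq_bot_iff_le_centralizer.1 (hcross i j hij) h1
    rw [← hEmap] at h2
    exact (R.cent_iff _ _).1 h2
  · obtain ⟨n, hn, ⟨F, iF, iF', hF, hiso, hact⟩ | ⟨hp, hiso, hact⟩⟩ := hper i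
    · rw [← hEmap] at hiso hact
      exact ⟨n, hn, Or.inl ⟨F, iF, iF', hF, R.quot_iso _ hiso, R.acts_sl2 _ hact⟩⟩
    · rw [← hEmap] at hiso hact
      exact ⟨n, hn, Or.inr ⟨hp, R.quot_iso _ hiso, R.acts_perm _ hact⟩⟩

end Cfsg.Agent.H34.Star
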