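import Cfsg.Agent.H34.Star.Sections
import Cfsg.Agent.H34.Star.Faithful
import Cfsg.Agent.H34.Star.Transfer
import Cfsg.Agent.H34.Para.Orbit
import Cfsg.Agent.H34.Para.Two
import Mathlib

/-!
The local `C**(G,T)`-theorem for `p`-minimal groups of characteristic `p`.
-/

set_option autoImplicit false
set_option linter.style.haveILetI false
set_option maxHeartbeats 1000000

namespace Cfsg.Agent.H34.Star

open Subgroup
open Cfsg.Agent.H34.Para
open Cfsg.Agent.H34.MinOffender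
open scoped commutatorElement

universe u

/-- The components of the faithful image, with every largest elementary abelian subgroup inside them. -/
theorem exists_image_components {G : Type u} [Group G] [Finite G] {p : ℕ} [Fact p.Prime]
    {V P T M A₀ : Subgroup G} (h : FFP p V P T M) (hA₀P : A₀ ≤ P) (hA₀ : MinOff p V A₀) :
    ∃ (r : ℕ) (E : Fin r → Subgroup G), 1 ≤ r ∧ (∀ i, E i ≤ P) ∧ (∀ i j, i ≠ j → ⁅E i, E j⁆ = ⊥) ∧
      (∀ i, E i ⊓ (⨆ j ∈ {j | j ≠ i}, E j) = ⊥) ∧ (⨆ i, E i) ⊔ T = P ∧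
      (∀ i j, ∃ t ∈ T, (E i).map (MulAut.conj t).toMonoidHom = E j) ∧
      (∀ i, E i ≤ closure {g | ∃ X, Mem P A₀ X ∧ g ∈ X}) ∧
      (V ⊓ centralizer (((⨆ i, E i) : Subgroup G) : Set G)) ⊔ (⨆ i, ⁅V, E i⁆) = V ∧
      (∀ i j, i ≠ j → ⁅⁅V, E i⁆, E j⁆ = ⊥) ∧
      (∀ X : Subgroup G, X ≤ P → (∀ a ∈ X, ∀ b ∈ X, a * b = b * a) → (∀ a ∈ X, a ^ p = 1) →
        Nat.card V ≤ Nat.card X * Nat.card ↥(V ⊓ centralizer (X : Set G)) → X ≤ ⨆ i, E i) ∧
      ∀ i, ∃ n : ℕ, 1 ≤ n ∧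
        ((∃ (F : Type) (_ : Field F) (_ : Fintype F), Fintype.card F = p ^ n ∧
          Nonempty (↥(E i) ≃* Matrix.SpecialLinearGroup (Fin 2) F) ∧
          Cfsg.ActsAsSL2OnSection F ⊤ (E i) ⁅V, E i⁆
            (⁅V, E i⁆ ⊓ centralizer ((E i : Subgroup G) : Set G))) ∨
        (p = 2 ∧ Nonempty (↥(E i) ≃* Equiv.Perm (Fin (2 ^ n + 1))) ∧
          Cfsg.ActsAsOddPermModuleOnSection (2 ^ n + 1) ⊤ (E i) ⁅V, E i⁆
            (⁅V, E i⁆ ⊓ centralizer ((E i : Subgroup G) : Set G)))) := by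
  classical
  by_cases hq : 3 ≤ Nat.card ↥A₀
  · obtain ⟨r, E, hr, hEP, hcomm, hdirect, hsup, hconj, hperm, hmem, hdec, hcross, hper⟩ :=
      exists_components_large' h hA₀P hA₀ hq
    refine ⟨r, E, hr, hEP, hcomm, hdirect, hsup, hconj, hmem, hdec, hcross, ?_, fun i => ?_⟩
    · intro X hXP hXc hXe hl
      obtain ⟨n, hn, F, iF, iF', hF, hiso, hact⟩ := hper ⟨0, hr⟩
      exact offender_mem_sl2 h hEP hcomm hdirect hsup hconj hperm hdec hcross ⟨0, hr⟩ hn hF hiso hact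
        hXP hXc hXe hl
    · obtain ⟨n, hn, hrest⟩ := hper i
      exact ⟨n, hn, Or.inl hrest⟩
  · obtain ⟨a, ha, ha1⟩ := (bot_or_exists_ne_one A₀).resolve_left hA₀.ne
    have hdvd : p ∣ Nat.card ↥A₀ := by
      rw [← orderOf_eq_prime (hA₀.expA a ha) ha1, ← orderOf_mk a ha]
      exact orderOf_dvd_natCard _
    have hle := Nat.le_of_dvd Nat.card_pos hdvd
    have h2 := (Fact.out : p.Prime).two_le
    obtain rfl : p = 2 := by omega
    have hq2 : Nat.card ↥A₀ = 2 := by omega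
    letI : CommGroup ↥V :=
      { (inferInstance : Group ↥V) with mul_comm := fun a b => Subtype.ext (h.comm a a.2 b b.2) }
    let e : Additive ↥V ≃+ Additive ↥V := AddEquiv.refl _
    obtain ⟨S, hctr, hphi⟩ := exists_ts h e hA₀P hA₀
    have R : Real h e A₀ S := ⟨hA₀P, hA₀, hctr, hphi⟩
    obtain ⟨n, F₀, hn, hF₀, hFM, -⟩ := exists_closed_frame h e R hq2
    obtain ⟨-, r, E, hr, hEP, hcomm, hdirect, hsup, hconj, hperm, hmem, hdec, hcross, hper⟩ :=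
      components_of_frame h e R F₀ hn hF₀ hFM
    refine ⟨r, E, hr, hEP, hcomm, hdirect, hsup, hconj, hmem, hdec, hcross, ?_, fun i => ?_⟩
    · intro X hXP hXc hXe hl
      obtain ⟨m, hm, hiso, hact⟩ := hper ⟨0, hr⟩
      have hpow : 2 ≤ 2 ^ m := le_self_pow₀ (by norm_num) (by omega)
      refine offender_mem_perm h hEP hcomm hdirect hsup hconj hperm hdec hcross ⟨0, hr⟩ (n := 2 ^ m + 1)
        (by omega) ?_ hiso hact hXP hXc hXe hl
      rw [Nat.cast_add, Nat.cast_pow, show ((2 : ℕ) : ZMod 2) = 0 from rfl, zero_pow (by omega : m ≠ 0),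
        zero_add, Nat.cast_one]
    · obtain ⟨m, hm, hrest⟩ := hper i
      exact ⟨m, hm, Or.inr ⟨rfl, hrest⟩⟩

/-- The local theorem, for `V = Ω₁(Z(O_p(G)))`. -/
theorem local_theorem {G : Type u} [Group G] [Finite G] {p : ℕ} [Fact p.Prime]
    (hmin : Cfsg.IsPMinimal p G) (hG : centralizer (Cfsg.pCore p G : Set G) ≤ Cfsg.pCore p G)
    (T : Sylow p G) (hne : Cfsg.cStarStarOf p (T : Subgroup G) ≠ ⊤) {V : Subgroup G}
    (hV : V = Cfsg.omegaOneCenter p (Cfsg.pCore p G)) :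
    ∃ (r : ℕ) (E : Fin r → Subgroup G), (∀ i, centralizer (V : Set G) ≤ E i) ∧
      Cfsg.thompsonSubgroup p G ⊔ (T : Subgroup G) ⊔ centralizer (V : Set G) = ⊤ ∧
      (⨆ i, E i) = Cfsg.thompsonSubgroup p G ⊔ centralizer (V : Set G) ∧
      (∀ i j, i ≠ j → ⁅E i, E j⁆ ≤ centralizer (V : Set G)) ∧
      (∀ i, E i ⊓ (⨆ j ∈ {j | j ≠ i}, E j) ≤ centralizer (V : Set G)) ∧
      (∀ i j, ∃ t ∈ (T : Subgroup G), (E i).map (MulAut.conj t).toMonoidHom = E j) ∧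
      (V ⊓ centralizer ((⨆ i, E i : Subgroup G) : Set G)) ⊔ (⨆ i, ⁅V, E i⁆) = V ∧
      (∀ i j, i ≠ j → ⁅⁅V, E i⁆, E j⁆ = ⊥) ∧
      ∀ i, ∃ n : ℕ, 1 ≤ n ∧
      ((∃ (F : Type) (_ : Field F) (_ : Fintype F), Fintype.card F = p ^ n ∧
          (∃ _ : ((centralizer (V : Set G)).subgroupOf (E i)).Normal,
            Nonempty (↥(E i) ⧸ (centralizer (V : Set G)).subgroupOf (E i) ≃* Matrix.SpecialLinearGroup (Fin 2) F)) ∧
          Cfsg.ActsAsSL2OnSection F ⊤ (E i) ⁅V, E i⁆ (⁅V, E i⁆ ⊓ centralizer ((E i : Subgroup G) : Set G))) ∨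
        (p = 2 ∧ (∃ _ : ((centralizer (V : Set G)).subgroupOf (E i)).Normal,
            Nonempty (↥(E i) ⧸ (centralizer (V : Set G)).subgroupOf (E i) ≃* Equiv.Perm (Fin (2 ^ n + 1)))) ∧
          Cfsg.ActsAsOddPermModuleOnSection (2 ^ n + 1) ⊤ (E i) ⁅V, E i⁆
            (⁅V, E i⁆ ⊓ centralizer ((E i : Subgroup G) : Set G)))) := by
  classical
  haveI : V.Normal := hV ▸ omega_core_normal
  obtain ⟨M, hM, hTM⟩ := (hmin T).2.exists
  let R := semiRep V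
  have h := ffp_of_rep hmin hM hTM hG hne hV R
  obtain ⟨A, hA, hAC⟩ := exists_max_moving hmin hM hTM hG hne
  rw [← hV] at hAC
  haveI : (Cfsg.thompsonSubgroup p G).Normal :=
    haveI := thompsonSubgroup_characteristic (p := p) (G := G); inferInstance
  obtain ⟨hAc, hAe, hAl⟩ := max_image_large hV R hA
  have hAne : A.map R.π ≠ ⊥ := by
    rw [Ne, Subgroup.map_eq_bot_iff, R.ker]
    exact hAC
  obtain ⟨A₀, hA₀A, hA₀⟩ := exists_minOff (p := p) (V := R.θ.range) (P := A.map R.π) le_rfl hAne hAc hAe hAl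
  have hA₀J : A₀ ≤ (Cfsg.thompsonSubgroup p G).map R.π := hA₀A.trans (map_mono (le_sSup hA))
  obtain ⟨r, Eb, hr, hEP, hcomm, hdirect, hsup, hconj, hmem, hdec, hcross, hoff, hper⟩ :=
    exists_image_components h (hA₀A.trans (map_le_range _ _)) hA₀
  have hJ : (⨆ i, Eb i) = (Cfsg.thompsonSubgroup p G).map R.π := by
    refine le_antisymm (iSup_le fun i => (hmem i).trans ((closure_le _).2 ?_)) ?_
    · rintro x ⟨X, ⟨_, ⟨g, rfl⟩, rfl⟩, hx⟩
      obtain ⟨a, ha, rfl⟩ := hx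
      obtain ⟨j, hj, rfl⟩ := hA₀J ha
      exact ⟨g * j * g⁻¹, Normal.conj_mem inferInstance _ hj g, by simp⟩
    · refine map_le_iff_le_comap.2 (sSup_le fun B hB => map_le_iff_le_comap.1 ?_)
      obtain ⟨hBc, hBe, hBl⟩ := max_image_large hV R hB
      exact hoff _ (map_le_range _ _) hBc hBe hBl
  exact assemble R p hr Eb hEP hcomm hdirect hsup hconj hdec hcross hJ hper

end Cfsg.Agent.H34.Star
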