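import Mathlib

/-!
A commutative group permuting the factors of a power: the fixed-point bound holds when it holds on each
factor, and equality forces every factor to be fixed.
-/

set_option autoImplicit false
set_option linter.style.haveILetI false

namespace Cfsg.Agent.H34.Star

theorem perm_apply_inv {α : Type*} (e : Equiv.Perm α) (a : α) : e (e⁻¹ a) = a := e.apply_symm_apply a

theorem perm_inv_apply {α : Type*} (e : Equiv.Perm α) (a : α) : e⁻¹ (e a) = a := e.symm_apply_apply a

variable {X I W : Type*} [CommGroup X] [Finite X] [Fintype I] [Finite W] [Nonempty W]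
  (ρ : X →* Equiv.Perm (I → W)) (σ : X →* Equiv.Perm I)

/-- The map on the `i`th coordinate of an element fixing `i`. -/
def coord (x : X) (i : I) (g : W → W) : Prop := σ x i = i ∧ ∀ f, ρ x f i = g (f i)

theorem coord_unique [Nonempty W] {x : X} {i : I} {g g' : W → W} (h : coord ρ σ x i g) (h' : coord ρ σ x i g') :
    g = g' :=
  funext fun w => (h.2 fun _ => w).symm.trans (h'.2 fun _ => w)

theorem exists_coord (hloc : ∀ x f f' i, f i = f' i → ρ x f (σ x i) = ρ x f' (σ x i)) {x : X} {i : I}
    (hx : σ x i = i) : ∃ g, coord ρ σ x i g :=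
  ⟨fun w => ρ x (fun _ => w) i, hx, fun f => by
    have := hloc x f (fun _ => f i) i rfl
    rwa [hx] at this⟩

/-- The bound on a power, and equality. -/
theorem orbit_bound (hloc : ∀ x f f' i, f i = f' i → ρ x f (σ x i) = ρ x f' (σ x i))
    (hfaith : Function.Injective ρ) (hW : 2 ≤ Nat.card W)
    (hbd : ∀ i, Nat.card {g : W → W // ∃ x, coord ρ σ x i g} *
      Nat.card {w : W // ∀ x g, coord ρ σ x i g → g w = w} ≤ Nat.card W) :
    Nat.card X * Nat.card {f : I → W // ∀ x, ρ x f = f} ≤ Nat.card W ^ Fintype.card I ∧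
      (3 ≤ Nat.card W →
        Nat.card W ^ Fintype.card I ≤ Nat.card X * Nat.card {f : I → W // ∀ x, ρ x f = f} →
        ∀ i, (∀ x, σ x i = i) ∧ Nat.card W ≤ Nat.card {g : W → W // ∃ x, coord ρ σ x i g} *
          Nat.card {w : W // ∀ x g, coord ρ σ x i g → g w = w}) := by
  classical
  haveI : Fintype X := Fintype.ofFinite X
  haveI : Fintype W := Fintype.ofFinite W
  let K : Finset I → Subgroup X := fun S =>
    { carrier := {x | (∀ i ∈ S, σ x i = i) ∧ ∀ i ∈ S, ∀ f, ρ x f i = f i}
      one_mem' := ⟨fun i _ => by simp, fun i _ f => by simp⟩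
      mul_mem' := by
        rintro a b ⟨a1, a2⟩ ⟨b1, b2⟩
        exact ⟨fun i hi => by rw [map_mul, Equiv.Perm.mul_apply, b1 i hi, a1 i hi],
          fun i hi f => by rw [map_mul, Equiv.Perm.mul_apply, a2 i hi, b2 i hi]⟩
      inv_mem' := by
        rintro a ⟨a1, a2⟩
        refine ⟨fun i hi => ?_, fun i hi f => ?_⟩
        · rw [map_inv, Equiv.Perm.inv_eq_iff_eq, a1 i hi]
        · have := a2 i hi ((ρ a)⁻¹ f)
          rw [perm_apply_inv] at this
          rw [map_inv, this] }
  let Fx := {f : I → W // ∀ x, ρ x f = f}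
  let FS : Finset I → Set (I → Option W) := fun S =>
    Set.range fun f : Fx => fun i => if i ∈ S then some (f.1 i) else none
  have key : ∀ n (S : Finset I), S.card = n → (∀ x, ∀ i ∈ S, σ x i ∈ S) →
      (K S).index * Nat.card ↥(FS S) ≤ Nat.card W ^ S.card ∧
      (3 ≤ Nat.card W → Nat.card W ^ S.card ≤ (K S).index * Nat.card ↥(FS S) → ∀ i ∈ S,
        (∀ x, σ x i = i) ∧ Nat.card W ≤ Nat.card {g : W → W // ∃ x, coord ρ σ x i g} *
          Nat.card {w : W // ∀ x g, coord ρ σ x i g → g w = w}) := by
    intro n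
    induction n using Nat.strong_induction_on with
    | _ n ih =>
    intro S hn hS
    rcases S.eq_empty_or_nonempty with rfl | ⟨i, hi⟩
    · refine ⟨?_, fun _ _ i h => absurd h (Finset.notMem_empty i)⟩
      have h1 : K ∅ = ⊤ := top_le_iff.1 fun x _ => ⟨fun i h => by simp at h, fun i h => by simp at h⟩
      rw [h1, Subgroup.index_top, one_mul, Finset.card_empty, pow_zero]
      haveI : Subsingleton ↥(FS ∅) := ⟨by
        rintro ⟨_, a, rfl⟩ ⟨_, b, rfl⟩
        exact Subtype.ext (funext fun i => by simp)⟩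
      exact Finite.card_le_one_iff_subsingleton.2 inferInstance
    let O : Finset I := Finset.univ.image fun x => σ x i
    have hOS : O ⊆ S := by
      intro j hj
      obtain ⟨x, -, rfl⟩ := Finset.mem_image.1 hj
      exact hS x i hi
    have hOinv : ∀ x, ∀ j ∈ O, σ x j ∈ O := by
      intro x j hj
      obtain ⟨y, -, rfl⟩ := Finset.mem_image.1 hj
      exact Finset.mem_image.2 ⟨x * y, Finset.mem_univ _, by rw [map_mul, Equiv.Perm.mul_apply]⟩
    have hiO : i ∈ O := Finset.mem_image.2 ⟨1, Finset.mem_univ _, by simp⟩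
    have hlt : (S \ O).card < n :=
      hn ▸ Finset.card_lt_card ⟨Finset.sdiff_subset, fun h => (Finset.mem_sdiff.1 (h hi)).2 hiO⟩
    have hSO : ∀ x, ∀ j ∈ S \ O, σ x j ∈ S \ O := fun x j hj => by
      rw [Finset.mem_sdiff] at hj ⊢
      refine ⟨hS x j hj.1, fun h => hj.2 ?_⟩
      have := hOinv x⁻¹ _ h
      rwa [map_inv, perm_inv_apply] at this
    have h1 := ih _ hlt (S \ O) rfl hSO
    -- the orbit
    let St : Subgroup X :=
      { carrier := {x | σ x i = i}
        one_mem' := by simp
        mul_mem' := fun {a b} ha hb => by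
          show σ (a * b) i = i
          rw [map_mul, Equiv.Perm.mul_apply, show σ b i = i from hb, show σ a i = i from ha]
        inv_mem' := fun {a} ha => by
          show σ a⁻¹ i = i
          rw [map_inv, Equiv.Perm.inv_eq_iff_eq]
          exact (show σ a i = i from ha).symm }
    have hKO : ∀ x ∈ St, (∀ f, ρ x f i = f i) → x ∈ K O := by
      intro x hx hxi
      refine ⟨fun j hj => ?_, fun j hj f => ?_⟩
      · obtain ⟨y, -, rfl⟩ := Finset.mem_image.1 hj
        rw [← Equiv.Perm.mul_apply, ← map_mul, mul_comm, map_mul, Equiv.Perm.mul_apply, show σ x i = i from hx]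
      · obtain ⟨y, -, rfl⟩ := Finset.mem_image.1 hj
        have e := hloc y (ρ x ((ρ y)⁻¹ f)) ((ρ y)⁻¹ f) i (hxi _)
        rw [perm_apply_inv, ← Equiv.Perm.mul_apply, ← map_mul, mul_comm, map_mul,
          Equiv.Perm.mul_apply, perm_apply_inv] at e
        exact e
    let Im := {g : W → W // ∃ x, coord ρ σ x i g}
    have hKOle : K O ≤ St := fun x hx => hx.1 i hiO
    have hidx : (K O).index ≤ O.card * Nat.card Im := by
      have e1 : (K O).relIndex St * St.index = (K O).index := Subgroup.relIndex_mul_index hKOle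
      have e2 : St.index ≤ O.card := by
        rw [Subgroup.index, ← Fintype.card_coe, ← Nat.card_eq_fintype_card]
        refine Nat.card_le_card_of_injective
          (fun q : X ⧸ St => (⟨σ (Quotient.out q) i, Finset.mem_image.2 ⟨_, Finset.mem_univ _, rfl⟩⟩ : ↥O))
          fun a b h => ?_
        rw [← QuotientGroup.out_eq' a, ← QuotientGroup.out_eq' b, QuotientGroup.eq]
        show σ ((Quotient.out a)⁻¹ * Quotient.out b) i = i
        have h' : σ (Quotient.out a) i = σ (Quotient.out b) i := congrArg Subtype.val h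
        rw [map_mul, Equiv.Perm.mul_apply, ← h', map_inv, perm_inv_apply]
      have e3 : (K O).relIndex St ≤ Nat.card Im := by
        choose g hg using fun x : ↥St => exists_coord ρ σ hloc (show σ (x : X) i = i from x.2)
        refine Nat.card_le_card_of_injective
          (fun q : ↥St ⧸ (K O).subgroupOf St => (⟨g (Quotient.out q), _, hg _⟩ : Im)) fun a b h => ?_
        rw [← QuotientGroup.out_eq' a, ← QuotientGroup.out_eq' b, QuotientGroup.eq, Subgroup.mem_subgroupOf]
        refine hKO _ (((Quotient.out a)⁻¹ * Quotient.out b : ↥St)).2 fun f => ?_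
        set x : X := ((Quotient.out a : ↥St) : X)
        set y : X := ((Quotient.out b : ↥St) : X)
        have hxy : ∀ f, ρ y f i = ρ x f i := fun f => by
          rw [(hg (Quotient.out b)).2, (hg (Quotient.out a)).2]
          exact congrFun (congrArg Subtype.val h.symm) _
        show ρ (x⁻¹ * y) f i = f i
        have hxi : σ x⁻¹ i = i := St.inv_mem (Quotient.out a : ↥St).2
        have e := hloc x⁻¹ (ρ y f) (ρ x f) i (hxy f)
        rw [hxi, ← Equiv.Perm.mul_apply, ← map_mul, ← Equiv.Perm.mul_apply, ← map_mul, inv_mul_cancel,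
          map_one] at e
        exact e
      calc (K O).index = (K O).relIndex St * St.index := e1.symm
        _ ≤ Nat.card Im * O.card := Nat.mul_le_mul e3 e2
        _ = _ := mul_comm _ _
    have hFO : Nat.card ↥(FS O) ≤ Nat.card {w : W // ∀ x g, coord ρ σ x i g → g w = w} := by
      choose f hf using fun a : ↥(FS O) => a.2
      refine Nat.card_le_card_of_injective (fun a => ⟨(f a).1 i, fun x g hx => by
        rw [← hx.2, (f a).2 x]⟩) fun a b h => ?_
      have h' : (f a).1 i = (f b).1 i := congrArg Subtype.val h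
      refine Subtype.ext ((hf a).symm.trans (Eq.trans ?_ (hf b)))
      funext j
      by_cases hj : j ∈ O
      · obtain ⟨y, -, rfl⟩ := Finset.mem_image.1 hj
        have e := hloc y _ _ i h'
        rw [(f a).2 y, (f b).2 y] at e
        simp [hj, e]
      · simp [hj]
    have hOcard : O.card * Nat.card W ≤ Nat.card W ^ O.card ∧
        (3 ≤ Nat.card W → Nat.card W ^ O.card ≤ O.card * Nat.card W → O.card = 1) := by
      have : 1 ≤ O.card := Finset.card_pos.2 ⟨i, hiO⟩
      obtain ⟨k, hk⟩ : ∃ k, O.card = k + 1 := ⟨O.card - 1, by omega⟩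
      rw [hk, pow_succ]
      refine ⟨Nat.mul_le_mul_right _ (le_trans Nat.lt_two_pow_self.nat_succ_le (Nat.pow_le_pow_left hW k)),
        fun h3 hle => ?_⟩
      have h5 : 3 ^ k ≤ k + 1 :=
        (Nat.pow_le_pow_left h3 k).trans (Nat.le_of_mul_le_mul_right hle (by omega))
      rcases k with _ | k
      · rfl
      · have h6 : 2 * k + 3 ≤ 3 ^ (k + 1) := by
          clear h5 hle hk
          induction k with
          | zero => norm_num
          | succ k ih => rw [pow_succ]; omega
        omega
    have h2 : (K O).index * Nat.card ↥(FS O) ≤ Nat.card W ^ O.card ∧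
        (3 ≤ Nat.card W → Nat.card W ^ O.card ≤ (K O).index * Nat.card ↥(FS O) → (∀ x, σ x i = i) ∧
          Nat.card W ≤ Nat.card Im * Nat.card {w : W // ∀ x g, coord ρ σ x i g → g w = w}) := by
      have l1 : (K O).index * Nat.card ↥(FS O) ≤ O.card * (Nat.card Im *
          Nat.card {w : W // ∀ x g, coord ρ σ x i g → g w = w}) := by
        rw [← mul_assoc]; exact Nat.mul_le_mul hidx hFO
      have l2 := Nat.mul_le_mul_left O.card (hbd i)
      refine ⟨l1.trans (l2.trans hOcard.1), fun h3 hle => ?_⟩
      have hO1 := hOcard.2 h3 (hle.trans (l1.trans l2))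
      have hle2 := hle.trans l1
      rw [hO1, pow_one, one_mul] at hle2
      refine ⟨fun x => ?_, hle2⟩
      obtain ⟨a, ha⟩ := Finset.card_eq_one.1 hO1
      have hx : σ x i ∈ O := Finset.mem_image.2 ⟨x, Finset.mem_univ _, rfl⟩
      have hi' := hiO
      rw [ha, Finset.mem_singleton] at hx hi'
      rw [hx, hi']
    -- combine
    have h3 : (K S).index ≤ (K (S \ O)).index * (K O).index := by
      refine le_trans (Subgroup.index_antitone ?_) Subgroup.index_inf_le
      rintro x ⟨⟨a1, a2⟩, b1, b2⟩
      exact ⟨fun j hj => if h : j ∈ O then b1 j h else a1 j (Finset.mem_sdiff.2 ⟨hj, h⟩),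
        fun j hj => if h : j ∈ O then b2 j h else a2 j (Finset.mem_sdiff.2 ⟨hj, h⟩)⟩
    have h4 : Nat.card ↥(FS S) ≤ Nat.card ↥(FS (S \ O)) * Nat.card ↥(FS O) := by
      rw [← Nat.card_prod]
      choose f hf using fun a : ↥(FS S) => a.2
      refine Nat.card_le_card_of_injective (fun a => (⟨_, f a, rfl⟩, ⟨_, f a, rfl⟩)) fun a b h => ?_
      obtain ⟨h', h''⟩ := Prod.ext_iff.1 h
      refine Subtype.ext ((hf a).symm.trans (Eq.trans ?_ (hf b)))
      funext j
      by_cases hj : j ∈ S
      · by_cases hjO : j ∈ O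
        · have e := congrFun (congrArg Subtype.val h'') j
          simp only [hjO, if_true] at e
          simp only [hj, if_true]; exact e
        · have e := congrFun (congrArg Subtype.val h') j
          simp only [Finset.mem_sdiff, hj, hjO, not_false_iff, and_self, if_true] at e
          simp only [hj, if_true]; exact e
      · simp [hj]
    have hle : (K S).index * Nat.card ↥(FS S) ≤
        ((K (S \ O)).index * Nat.card ↥(FS (S \ O))) * ((K O).index * Nat.card ↥(FS O)) :=
      (Nat.mul_le_mul h3 h4).trans (le_of_eq (by ring))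
    have hpow : Nat.card W ^ S.card = Nat.card W ^ (S \ O).card * Nat.card W ^ O.card := by
      rw [← pow_add, Finset.card_sdiff_add_card_eq_card hOS]
    rw [hpow]
    refine ⟨hle.trans (Nat.mul_le_mul h1.1 h2.1), fun hW3 heq => ?_⟩
    have heq' := heq.trans hle
    have hpos : ∀ m : ℕ, 0 < Nat.card W ^ m := fun m => pow_pos (by omega) m
    have ea : Nat.card W ^ (S \ O).card ≤ (K (S \ O)).index * Nat.card ↥(FS (S \ O)) :=
      Nat.le_of_mul_le_mul_right (heq'.trans (Nat.mul_le_mul_left _ h2.1)) (hpos _)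
    have eb : Nat.card W ^ O.card ≤ (K O).index * Nat.card ↥(FS O) :=
      Nat.le_of_mul_le_mul_left (heq'.trans (Nat.mul_le_mul_right _ h1.1)) (hpos _)
    intro j hj
    by_cases hjO : j ∈ O
    · obtain ⟨hfx, hb⟩ := h2.2 hW3 eb
      obtain ⟨y, -, rfl⟩ := Finset.mem_image.1 hjO
      rw [hfx y]; exact ⟨hfx, hb⟩
    · exact h1.2 hW3 ea j (Finset.mem_sdiff.2 ⟨hj, hjO⟩)
  have hK : K Finset.univ = ⊥ := le_bot_iff.1 fun x hx => hfaith (Equiv.ext fun f => funext fun i => by
    rw [hx.2 i (Finset.mem_univ i), map_one]; rfl)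
  have hF : Nat.card Fx ≤ Nat.card ↥(FS Finset.univ) := Nat.card_le_card_of_injective
    (fun f : Fx => (⟨_, f, rfl⟩ : ↥(FS Finset.univ))) fun a b h => Subtype.ext (funext fun i => by
      simpa using congrFun (congrArg Subtype.val h) i)
  have h := key _ Finset.univ rfl fun _ _ _ => Finset.mem_univ _
  rw [hK, Subgroup.index_bot, Finset.card_univ] at h
  have hle := Nat.mul_le_mul_left (Nat.card X) hF
  exact ⟨hle.trans h.1, fun h3 heq i => h.2 h3 (heq.trans hle) i (Finset.mem_univ i)⟩

end Cfsg.Agent.H34.Star
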