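import Mathlib

/-!
An elementary group normalising `SL₂(F)` on its natural module: the fixed-point bound, with equality
only inside `SL₂(F)`.
-/

set_option autoImplicit false
set_option linter.style.haveILetI false
set_option maxHeartbeats 1000000

namespace Cfsg.Agent.H34.Star

open scoped Matrix

variable {F : Type*} [Field F] [Fintype F]

/-- An additive map commuting with `SL₂(F)` is a scalar. -/
theorem scalar_of_commutes (f : (Fin 2 → F) → Fin 2 → F) (hadd : ∀ v w, f (v + w) = f v + f w)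
    (hc : ∀ A : Matrix.SpecialLinearGroup (Fin 2) F, ∀ v, f ((A : Matrix (Fin 2) (Fin 2) F) *ᵥ v) =
      (A : Matrix (Fin 2) (Fin 2) F) *ᵥ f v) :
    ∃ c : F, ∀ v, f v = c • v := by
  let up : Matrix.SpecialLinearGroup (Fin 2) F := ⟨!![1, 1; 0, 1], by simp [Matrix.det_fin_two]⟩
  let wm : Matrix.SpecialLinearGroup (Fin 2) F := ⟨!![0, -1; 1, 0], by simp [Matrix.det_fin_two]⟩
  have h0 : f 0 = 0 := by
    have := hadd 0 0
    rw [add_zero, left_eq_add] at this
    exact this
  set a := f ![1, 0] 0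
  have e1 : f ![1, 0] = ![a, 0] := by
    have h := hc up ![1, 0]
    rw [show (up : Matrix (Fin 2) (Fin 2) F) *ᵥ ![1, 0] = ![1, 0] by
      funext i; fin_cases i <;> simp [up, Matrix.mulVec, dotProduct, Fin.sum_univ_two]] at h
    have h1 := congrFun h 0
    simp [up, Matrix.mulVec, dotProduct, Fin.sum_univ_two] at h1
    funext i
    fin_cases i
    · rfl
    · simpa using h1
  have es : ∀ s : F, f ![s, 0] = ![s * a, 0] := by
    intro s
    by_cases hs : s = 0
    · subst hs
      rw [show (![0, 0] : Fin 2 → F) = 0 by funext i; fin_cases i <;> rfl, h0]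
      funext i; fin_cases i <;> simp
    let D : Matrix.SpecialLinearGroup (Fin 2) F := ⟨!![s, 0; 0, s⁻¹], by simp [Matrix.det_fin_two, hs]⟩
    have h := hc D ![1, 0]
    rw [e1, show (D : Matrix (Fin 2) (Fin 2) F) *ᵥ ![1, 0] = ![s, 0] by
      funext i; fin_cases i <;> simp [D, Matrix.mulVec, dotProduct, Fin.sum_univ_two]] at h
    rw [h]
    funext i; fin_cases i <;> simp [D, Matrix.mulVec, dotProduct, Fin.sum_univ_two]
  refine ⟨a, fun v => ?_⟩
  have h2 := hc wm ![v 1, 0]
  rw [es, show (wm : Matrix (Fin 2) (Fin 2) F) *ᵥ ![v 1, 0] = ![0, v 1] by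
    funext i; fin_cases i <;> simp [wm, Matrix.mulVec, dotProduct, Fin.sum_univ_two]] at h2
  rw [show v = ![v 0, 0] + ![0, v 1] by funext i; fin_cases i <;> simp, hadd, es, h2]
  funext i; fin_cases i <;> simp [wm, Matrix.mulVec, dotProduct, Fin.sum_univ_two, mul_comm]

theorem basis_two {v₀ w : Fin 2 → F} (hv : v₀ ≠ 0) (hw : ∀ c : F, w ≠ c • v₀) :
    (∀ u, ∃ a b : F, u = a • v₀ + b • w) ∧ ∀ a b : F, a • v₀ + b • w = 0 → a = 0 ∧ b = 0 := by
  classical
  have hind : ∀ a b : F, a • v₀ + b • w = 0 → a = 0 ∧ b = 0 := by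
    intro a b h
    by_cases hb : b = 0
    · rw [hb, zero_smul, add_zero, smul_eq_zero] at h
      exact ⟨h.resolve_right hv, hb⟩
    · refine absurd ?_ (hw (-(b⁻¹ * a)))
      have h1 := congrArg (fun u => b⁻¹ • u) h
      simp only [smul_add, smul_smul, inv_mul_cancel₀ hb, one_smul, smul_zero] at h1
      rw [neg_smul]; exact eq_neg_of_add_eq_zero_right h1
  refine ⟨fun u => ?_, hind⟩
  have hinj : Function.Injective fun ab : F × F => ab.1 • v₀ + ab.2 • w := by
    intro x y h
    have h' : x.1 • v₀ + x.2 • w = y.1 • v₀ + y.2 • w := h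
    obtain ⟨h1, h2⟩ := hind (x.1 - y.1) (x.2 - y.2) (by
      rw [sub_smul, sub_smul, show x.1 • v₀ - y.1 • v₀ + (x.2 • w - y.2 • w) =
        (x.1 • v₀ + x.2 • w) - (y.1 • v₀ + y.2 • w) by abel, h', sub_self])
    exact Prod.ext (sub_eq_zero.1 h1) (sub_eq_zero.1 h2)
  obtain ⟨⟨a, b⟩, h⟩ := ((Fintype.bijective_iff_injective_and_card _).2
    ⟨hinj, by simp [Fintype.card_prod, sq]⟩).2 u
  exact ⟨a, b, h.symm⟩

/-- The bound for an elementary group normalising `SL₂(F)`. -/
theorem sl2_normaliser_bound {p : ℕ} [Fact p.Prime] (hchar : (p : F) = 0)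
    (Y : Subgroup (Equiv.Perm (Fin 2 → F))) (hcomm : ∀ x ∈ Y, ∀ y ∈ Y, x * y = y * x)
    (hexp : ∀ y ∈ Y, y ^ p = 1) (hadd : ∀ y ∈ Y, ∀ v w, y (v + w) = y v + y w)
    (hnorm : ∀ y ∈ Y, ∀ A : Matrix.SpecialLinearGroup (Fin 2) F, ∃ B : Matrix.SpecialLinearGroup (Fin 2) F,
      ∀ v, y ((A : Matrix (Fin 2) (Fin 2) F) *ᵥ v) = (B : Matrix (Fin 2) (Fin 2) F) *ᵥ y v) :
    Nat.card ↥Y * Nat.card {v : Fin 2 → F // ∀ y ∈ Y, y v = v} ≤ Nat.card (Fin 2 → F) ∧
      (Nat.card (Fin 2 → F) ≤ Nat.card ↥Y * Nat.card {v : Fin 2 → F // ∀ y ∈ Y, y v = v} →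
        ∀ y ∈ Y, ∃ A : Matrix.SpecialLinearGroup (Fin 2) F, ∀ v, y v = (A : Matrix (Fin 2) (Fin 2) F) *ᵥ v) := by
  classical
  haveI : CharP F p := (CharP.charP_iff_prime_eq_zero Fact.out).2 hchar
  have hzero : ∀ y ∈ Y, y 0 = 0 := fun y hy => by
    have := hadd y hy 0 0
    rw [add_zero, left_eq_add] at this
    exact this
  have hsemi : ∀ y : ↥Y, ∃ s : F → F, ∀ c v, (y : Equiv.Perm (Fin 2 → F)) (c • v) = s c • (y : Equiv.Perm (Fin 2 → F)) v := by
    intro y
    obtain ⟨y, hy⟩ := y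
    choose B hB using hnorm y hy
    have hBinj : Function.Injective B := fun A A' h => by
      apply Subtype.ext
      refine Matrix.ext_of_mulVec_single fun j => y.injective ?_
      rw [hB, hB, h]
    have hBsurj := Finite.injective_iff_surjective.1 hBinj
    have key : ∀ c : F, ∃ c' : F, ∀ v : Fin 2 → F, y (c • y.symm v) = c' • v := by
      intro c
      refine scalar_of_commutes _ (fun v w => ?_) fun B' v => ?_
      · have h : y.symm (v + w) = y.symm v + y.symm w := y.injective (by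
          rw [hadd y hy, Equiv.apply_symm_apply, Equiv.apply_symm_apply, Equiv.apply_symm_apply])
        rw [h, smul_add, hadd y hy]
      · obtain ⟨A, rfl⟩ := hBsurj B'
        have h : y.symm ((B A : Matrix (Fin 2) (Fin 2) F) *ᵥ v) = (A : Matrix (Fin 2) (Fin 2) F) *ᵥ y.symm v :=
          y.injective (by rw [hB, Equiv.apply_symm_apply, Equiv.apply_symm_apply])
        rw [h, ← Matrix.mulVec_smul, hB]
    choose s hs using key
    exact ⟨s, fun c v => by simpa using hs c (y v)⟩
  choose s hs using hsemi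
  have hone : (![1, 0] : Fin 2 → F) ≠ 0 := fun h => one_ne_zero (congrFun h 0)
  have huniq : ∀ (y : ↥Y) (a b : F), a • (y : Equiv.Perm (Fin 2 → F)) ![1, 0] =
      b • (y : Equiv.Perm (Fin 2 → F)) ![1, 0] → a = b := by
    intro y a b h
    refine smul_left_injective F (fun h0 => hone ?_) h
    exact (y : Equiv.Perm (Fin 2 → F)).injective (h0.trans (hzero _ y.2).symm)
  have s_mul : ∀ y a b, s y (a * b) = s y a * s y b := fun y a b => huniq y _ _ (by
    rw [← hs y, mul_smul, hs y, hs y, smul_smul])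
  have s_one : ∀ y, s y 1 = 1 := fun y => huniq y _ _ (by rw [← hs y, one_smul, one_smul])
  have s_add : ∀ y a b, s y (a + b) = s y a + s y b := fun y a b => huniq y _ _ (by
    rw [← hs y, add_smul, hadd _ y.2, hs y, hs y, add_smul])
  have s_zero : ∀ y, s y 0 = 0 := fun y => huniq y _ _ (by rw [← hs y, zero_smul, zero_smul, hzero _ y.2])
  let sr : ↥Y → (F →+* F) := fun y =>
    { toFun := s y, map_one' := s_one y, map_mul' := s_mul y, map_zero' := s_zero y, map_add' := s_add y }
  let S : ↥Y →* (F ≃+* F) := MonoidHom.mk'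
    (fun y => RingEquiv.ofBijective (sr y) ⟨(sr y).injective,
      Finite.injective_iff_surjective.1 (sr y).injective⟩)
    (fun x y => RingEquiv.ext fun c => huniq (x * y) _ _ (by
      show s (x * y) c • _ = s x (s y c) • _
      rw [← hs]
      show (x : Equiv.Perm (Fin 2 → F)) ((y : Equiv.Perm (Fin 2 → F)) (c • ![1, 0])) = _
      rw [hs y, hs x]
      rfl))
  have hS : ∀ y c, S y c = s y c := fun y c => rfl
  set GS := S.range
  let K := FixedPoints.subfield ↥GS F
  have hK : ∀ c : F, c ∈ K ↔ ∀ y, s y c = c := fun c =>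
    ⟨fun h y => h ⟨S y, y, rfl⟩, fun h => by
      rintro ⟨_, y, rfl⟩
      exact h y⟩
  have hrank : Module.finrank ↥K F = Nat.card ↥GS := by
    haveI : Fintype ↥GS := Fintype.ofFinite _
    rw [Nat.card_eq_fintype_card]
    exact FixedPoints.finrank_eq_card ↥GS F
  have hcardF : Nat.card (Fin 2 → F) = Nat.card ↥K ^ (2 * Nat.card ↥GS) := by
    have : Nat.card F = Nat.card ↥K ^ Module.finrank ↥K F := Module.natCard_eq_pow_finrank
    rw [Nat.card_fun, Nat.card_fin, this, hrank, ← pow_mul, mul_comm]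
  -- a common fixed vector
  have hYp : IsPGroup p ↥Y := fun y => ⟨1, Subtype.ext (by simpa using hexp y y.2)⟩
  obtain ⟨v₀, hv₀, hv₀1⟩ : ∃ v₀, (∀ y ∈ Y, y v₀ = v₀) ∧ v₀ ≠ 0 := by
    have hdvd : p ∣ Nat.card (Fin 2 → F) := by
      obtain ⟨⟨n, hn⟩, -, hc⟩ := FiniteField.card F p
      rw [Nat.card_fun, Nat.card_fin, Nat.card_eq_fintype_card, hc, ← pow_mul]
      exact dvd_pow_self p (Nat.mul_ne_zero hn.ne' two_ne_zero)
    obtain ⟨b, hb, hb0⟩ := hYp.exists_fixed_point_of_prime_dvd_card_of_fixed_point (Fin 2 → F) hdvd (a := 0)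
      fun y => hzero _ y.2
    exact ⟨b, fun y hy => hb ⟨y, hy⟩, fun h => hb0 h.symm⟩
  -- the linear part
  set R := S.ker
  have hRlin : ∀ r ∈ R, ∀ (c : F) v, ((r : ↥Y) : Equiv.Perm (Fin 2 → F)) (c • v) =
      c • ((r : ↥Y) : Equiv.Perm (Fin 2 → F)) v := fun r hr c v => by
    rw [hs r, ← hS, show S r = 1 from hr]; rfl
  have hcard : Nat.card ↥Y = Nat.card ↥GS * Nat.card ↥R := by
    rw [← Nat.card_congr (QuotientGroup.quotientKerEquivRange S).toEquiv,
      ← Subgroup.card_eq_card_quotient_mul_card_subgroup]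
  have hC : ∀ v : {v : Fin 2 → F // ∀ y ∈ Y, y v = v}, ∀ c : F, (v : Fin 2 → F) = c • v₀ → c ∈ K := by
    intro v c hvc
    refine (hK c).2 fun y => smul_left_injective F hv₀1 ?_
    have e := v.2 y y.2
    rw [hvc, hs y, hv₀ y y.2] at e
    exact e
  have hbound : Nat.card ↥R * Nat.card {v : Fin 2 → F // ∀ y ∈ Y, y v = v} ≤ Nat.card ↥K ^ 2 := by
    by_cases hR : R = ⊥
    · rw [hR, Subgroup.card_bot, one_mul, sq, ← Nat.card_prod]
      by_cases hone' : ∀ v : {v : Fin 2 → F // ∀ y ∈ Y, y v = v}, ∃ c : F, (v : Fin 2 → F) = c • v₀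
      · choose c hc using hone'
        refine Nat.card_le_card_of_injective (fun v => ((⟨c v, hC v _ (hc v)⟩ : ↥K), (0 : ↥K))) fun a b h => ?_
        exact Subtype.ext ((hc a).trans ((by rw [show c a = c b from congrArg Subtype.val (Prod.ext_iff.1 h).1] :
          c a • v₀ = c b • v₀).trans (hc b).symm))
      · push Not at hone'
        obtain ⟨w, hw⟩ := hone'
        obtain ⟨hspan, hind⟩ := basis_two hv₀1 hw
        choose a b hab using fun v : {v : Fin 2 → F // ∀ y ∈ Y, y v = v} => hspan v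
        have hmem : ∀ v, a v ∈ K ∧ b v ∈ K := fun v => by
          have key : ∀ y, s y (a v) = a v ∧ s y (b v) = b v := fun y => by
            have e := v.2 y y.2
            rw [hab v, hadd _ y.2, hs y, hs y, hv₀ y y.2, w.2 y y.2] at e
            obtain ⟨h1, h2⟩ := hind (s y (a v) - a v) (s y (b v) - b v) (by
              rw [sub_smul, sub_smul]
              calc _ = (s y (a v) • v₀ + s y (b v) • (w : Fin 2 → F)) - (a v • v₀ + b v • (w : Fin 2 → F)) := by abel
                _ = 0 := by rw [e, sub_self])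
            exact ⟨sub_eq_zero.1 h1, sub_eq_zero.1 h2⟩
          exact ⟨(hK _).2 fun y => (key y).1, (hK _).2 fun y => (key y).2⟩
        refine Nat.card_le_card_of_injective (fun v => ((⟨a v, (hmem v).1⟩ : ↥K), (⟨b v, (hmem v).2⟩ : ↥K)))
          fun u v h => Subtype.ext ?_
        obtain ⟨h1, h2⟩ := Prod.ext_iff.1 h
        rw [hab u, hab v, show a u = a v from congrArg Subtype.val h1, show b u = b v from congrArg Subtype.val h2]
    · obtain ⟨⟨r₀, hr₀⟩, hne⟩ := Subgroup.ne_bot_iff_exists_ne_one.1 hR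
      have hr₀1 : r₀ ≠ 1 := fun h => hne (Subtype.ext h)
      obtain ⟨w, hw⟩ : ∃ w : Fin 2 → F, ∀ c : F, w ≠ c • v₀ := by
        by_contra hall
        push Not at hall
        choose c hc using hall
        have h := Nat.card_le_card_of_injective c fun u v h => by rw [hc u, hc v, h]
        rw [Nat.card_fun, Nat.card_fin, sq] at h
        nlinarith [Finite.one_lt_card (α := F)]
      obtain ⟨hspan, hind⟩ := basis_two hv₀1 hw
      have hext : ∀ r ∈ R, ((r : ↥Y) : Equiv.Perm (Fin 2 → F)) w = w → r = 1 := by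
        intro r hr hrw
        refine Subtype.ext (Equiv.ext fun u => ?_)
        obtain ⟨a, b, rfl⟩ := hspan u
        rw [hadd _ r.2, hRlin r hr, hRlin r hr, hv₀ _ r.2, hrw]; rfl
      choose a b hab using fun u => hspan u
      have hcoef : ∀ u a' b', u = a' • v₀ + b' • w → a u = a' ∧ b u = b' := fun u a' b' h => by
        obtain ⟨h1, h2⟩ := hind (a u - a') (b u - b') (by
          rw [sub_smul, sub_smul]
          calc _ = (a u • v₀ + b u • w) - (a' • v₀ + b' • w) := by abel
            _ = 0 := by rw [← hab, ← h, sub_self])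
        exact ⟨sub_eq_zero.1 h1, sub_eq_zero.1 h2⟩
      -- translations
      have hb1 : ∀ r ∈ R, b (((r : ↥Y) : Equiv.Perm (Fin 2 → F)) w) = 1 := by
        intro r hr
        set g := ((r : ↥Y) : Equiv.Perm (Fin 2 → F)) with hg
        set β := b (g w)
        have hpow : ∀ n : ℕ, ∃ t : F, (g ^ n) w = t • v₀ + β ^ n • w := by
          intro n
          induction n with
          | zero => exact ⟨0, by simp⟩
          | succ n ih =>
            obtain ⟨t, ht⟩ := ih
            obtain ⟨α, hα⟩ : ∃ α : F, g w = α • v₀ + β • w := ⟨_, hab _⟩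
            refine ⟨t + β ^ n * α, ?_⟩
            rw [pow_succ', Equiv.Perm.mul_apply, ht, hadd _ r.2, hRlin r hr, hRlin r hr, hv₀ _ r.2,
              hα, smul_add, smul_smul, smul_smul, add_smul, pow_succ]
            abel
        obtain ⟨t, ht⟩ := hpow p
        rw [show g ^ p = 1 from hexp _ r.2] at ht
        have h1 : β ^ p = 1 := ((hcoef w t (β ^ p) ht).2).symm.trans (hcoef w 0 1 (by simp)).2
        have h2 : (β - 1) ^ p = 0 := by rw [sub_pow_char, h1, one_pow, sub_self]
        exact sub_eq_zero.1 (pow_eq_zero_iff (Fact.out : p.Prime).ne_zero |>.1 h2)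
      have hrw : ∀ r ∈ R, ((r : ↥Y) : Equiv.Perm (Fin 2 → F)) w =
          a (((r : ↥Y) : Equiv.Perm (Fin 2 → F)) w) • v₀ + w := fun r hr => by
        conv_lhs => rw [hab (((r : ↥Y) : Equiv.Perm (Fin 2 → F)) w), hb1 r hr, one_smul]
      set T : ↥Y → F := fun r => a (((r : ↥Y) : Equiv.Perm (Fin 2 → F)) w)
      have ht0 : T r₀ ≠ 0 := fun h => hr₀1 (hext r₀ hr₀ (by
        rw [hrw r₀ hr₀, show a (_) = T r₀ from rfl, h, zero_smul, zero_add]))
      have happ : ∀ r ∈ R, ∀ u, ((r : ↥Y) : Equiv.Perm (Fin 2 → F)) u = (a u + b u * T r) • v₀ + b u • w := by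
        intro r hr u
        conv_lhs => rw [hab u]
        rw [hadd _ r.2, hRlin r hr, hRlin r hr, hv₀ _ r.2, hrw r hr, smul_add, smul_smul, add_smul]
        abel
      have hTK : ∀ r ∈ R, T r / T r₀ ∈ K := by
        intro r hr
        refine (hK _).2 fun y => ?_
        set g := ((y : ↥Y) : Equiv.Perm (Fin 2 → F)) with hg
        have hsym : ∀ r ∈ R, s y (T r) = b (g w) * T r := by
          intro r hr
          have e : g (((r : ↥Y) : Equiv.Perm (Fin 2 → F)) w) = ((r : ↥Y) : Equiv.Perm (Fin 2 → F)) (g w) := by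
            rw [← Equiv.Perm.mul_apply, ← Equiv.Perm.mul_apply, hcomm _ y.2 _ r.2]
          rw [hrw r hr, hadd _ y.2, hs y, hv₀ _ y.2] at e
          have e' : s y (T r) • v₀ + g w = (a (g w) + b (g w) * T r) • v₀ + b (g w) • w :=
            e.trans (happ r hr (g w))
          obtain ⟨h1, -⟩ := hind (s y (T r) - b (g w) * T r) 0 (by
            rw [zero_smul, add_zero, sub_smul, sub_eq_zero]
            have e2 := congrArg (fun u => u - g w) e'
            simp only [add_sub_cancel_right] at e2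
            refine e2.trans ?_
            conv_lhs => arg 2; rw [hab (g w)]
            rw [add_smul]
            abel)
          exact sub_eq_zero.1 h1
        have hb0 : b (g w) ≠ 0 := by
          intro h
          have := hsym r₀ hr₀
          rw [h, zero_mul] at this
          exact ht0 ((sr y).injective (this.trans (s_zero y).symm))
        rw [div_eq_mul_inv, s_mul, show s y (T r₀)⁻¹ = (s y (T r₀))⁻¹ from map_inv₀ (sr y) _, hsym r hr,
          hsym r₀ hr₀]
        field_simp
      rw [sq]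
      refine Nat.mul_le_mul ?_ ?_
      · refine Nat.card_le_card_of_injective (fun r : ↥R => (⟨T r / T r₀, hTK r r.2⟩ : ↥K)) fun r r' h => ?_
        have h' : T r = T r' := (div_left_inj' ht0).1 (congrArg Subtype.val h)
        refine Subtype.ext (inv_mul_eq_one.1 (hext _ (R.mul_mem (R.inv_mem r.2) r'.2) ?_))
        show ((r : ↥Y) : Equiv.Perm (Fin 2 → F))⁻¹ (((r' : ↥Y) : Equiv.Perm (Fin 2 → F)) w) = w
        rw [hrw r' r'.2, show a (_) = T r' from rfl, ← h', show T r = a (_) from rfl, ← hrw r r.2]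
        exact Equiv.symm_apply_apply _ w
      · have hline : ∀ v : {v : Fin 2 → F // ∀ y ∈ Y, y v = v}, ∃ c : F, (v : Fin 2 → F) = c • v₀ := by
          intro v
          have e := v.2 _ (r₀ : ↥Y).2
          replace e := (happ r₀ hr₀ v.1).symm.trans e
          obtain ⟨h1, -⟩ := hind (b v.1 * T r₀) 0 (by
            rw [zero_smul, add_zero]
            have e2 : (a v.1 + b v.1 * T r₀) • v₀ + b v.1 • w = a v.1 • v₀ + b v.1 • w := e.trans (hab v.1)
            rw [add_smul, add_assoc, add_left_comm] at e2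
            exact add_eq_right.1 e2)
          exact ⟨a v.1, by
            conv_lhs => rw [hab v, (mul_eq_zero.1 h1).resolve_right ht0, zero_smul, add_zero]⟩
        choose c hc using hline
        refine Nat.card_le_card_of_injective (fun v => (⟨c v, hC v _ (hc v)⟩ : ↥K)) fun u v h => Subtype.ext ?_
        rw [hc u, hc v, show c u = c v from congrArg Subtype.val h]
  have hK2 : 2 ≤ Nat.card ↥K := Finite.one_lt_card
  have hs2 : Nat.card ↥GS * Nat.card ↥K ^ 2 ≤ Nat.card (Fin 2 → F) ∧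
      (Nat.card (Fin 2 → F) ≤ Nat.card ↥GS * Nat.card ↥K ^ 2 → Nat.card ↥GS = 1) := by
    rw [hcardF]
    obtain ⟨m, hm⟩ : ∃ m, Nat.card ↥GS = m + 1 :=
      ⟨Nat.card ↥GS - 1, by have := Nat.card_pos (α := ↥GS); omega⟩
    rw [hm, show 2 * (m + 1) = 2 * m + 2 from rfl, pow_add]
    have h1 : 2 * m + 1 ≤ Nat.card ↥K ^ (2 * m) :=
      le_trans Nat.lt_two_pow_self.nat_succ_le (Nat.pow_le_pow_left hK2 _)
    refine ⟨Nat.mul_le_mul_right _ (by omega), fun h => ?_⟩
    have := Nat.le_of_mul_le_mul_right h (pow_pos (by omega) 2)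
    omega
  have htot : Nat.card ↥Y * Nat.card {v : Fin 2 → F // ∀ y ∈ Y, y v = v} ≤ Nat.card ↥GS * Nat.card ↥K ^ 2 := by
    rw [hcard, mul_assoc]; exact Nat.mul_le_mul_left _ hbound
  refine ⟨htot.trans hs2.1, fun heq y hy => ?_⟩
  have hbot := Subgroup.card_eq_one.1 (hs2.2 (heq.trans htot))
  have hlin : ∀ (c : F) v, y (c • v) = c • y v := fun c v => by
    have h1 : S ⟨y, hy⟩ = 1 := Subgroup.mem_bot.1 (hbot ▸ (⟨⟨y, hy⟩, rfl⟩ : S ⟨y, hy⟩ ∈ GS))
    exact hRlin ⟨y, hy⟩ h1 c v
  let L : (Fin 2 → F) →ₗ[F] (Fin 2 → F) := { toFun := y, map_add' := hadd y hy, map_smul' := hlin }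
  have hdet : (LinearMap.toMatrix' L).det = 1 := by
    have hpow : ∀ n : ℕ, ∀ v, (L ^ n) v = (y ^ n) v := by
      intro n
      induction n with
      | zero => intro v; rfl
      | succ n ih => intro v; rw [pow_succ', Module.End.mul_apply, ih, pow_succ']; rfl
    have h1 : L ^ p = 1 := LinearMap.ext fun v => by rw [hpow, hexp y hy]; rfl
    have h2 : (LinearMap.det L) ^ p = 1 := by rw [← map_pow, h1, map_one]
    have h3 : (LinearMap.det L - 1) ^ p = 0 := by rw [sub_pow_char, h2, one_pow, sub_self]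
    rw [LinearMap.det_toMatrix']
    exact sub_eq_zero.1 (pow_eq_zero_iff (Fact.out : p.Prime).ne_zero |>.1 h3)
  exact ⟨⟨_, hdet⟩, fun v => (LinearMap.toMatrix'_mulVec L v).symm⟩

end Cfsg.Agent.H34.Star
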