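import Cfsg.Prelude.Def_BaumannBlocks
import Cfsg.Agent.H34.Star.OrbitBound
import Cfsg.Agent.H34.Star.SemiLinear
import Cfsg.Agent.H34.Star.PermNormal
import Cfsg.Agent.H34.Para.Ext
import Mathlib

/-!
In the structure of a minimal parabolic with offenders, every offender lies in the product of the
components.
-/

set_option autoImplicit false
set_option linter.style.haveILetI false
set_option linter.unusedSectionVars false
set_option maxHeartbeats 1000000

namespace Cfsg.Agent.H34.Star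

open Subgroup
open Cfsg.Agent.H34.MinOffender
open Cfsg.Agent.H34.Para
open scoped commutatorElement

variable {G : Type*} [Group G] {V : Subgroup G} {A : Type*} [AddCommGroup A]

open Classical in
/-- The map induced by conjugation on the image of `Φ`. -/
noncomputable def ind (Φ : Additive ↥V →+ A) (g : G) (a : A) : A :=
  if h : (∃ v, Φ v = a) ∧ g ∈ normalizer (V : Set G) then
    Φ (Additive.ofMul ⟨g * ((Additive.toMul h.1.choose : ↥V) : G) * g⁻¹,
      Cfsg.Agent.H34.conj_mem_of_mem_normalizer h.2 (Additive.toMul h.1.choose).2⟩)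
  else a

/-- The kernel of `Φ` is preserved by `g`. -/
def KerPres (Φ : Additive ↥V →+ A) (g : G) : Prop :=
  ∀ v : ↥V, Φ (Additive.ofMul v) = 0 → ∀ hv : g * (v : G) * g⁻¹ ∈ V, Φ (Additive.ofMul ⟨g * v * g⁻¹, hv⟩) = 0

theorem ind_eq {Φ : Additive ↥V →+ A} {g : G} (hg : g ∈ normalizer (V : Set G)) (hk : KerPres Φ g) (v : ↥V) :
    ind Φ g (Φ (Additive.ofMul v)) =
      Φ (Additive.ofMul ⟨g * v * g⁻¹, Cfsg.Agent.H34.conj_mem_of_mem_normalizer hg v.2⟩) := by
  classical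
  have hex : ∃ v', Φ v' = Φ (Additive.ofMul v) := ⟨_, rfl⟩
  rw [ind, dif_pos ⟨hex, hg⟩]
  set v' : ↥V := Additive.toMul hex.choose
  have hv' : Φ (Additive.ofMul v') = Φ (Additive.ofMul v) := hex.choose_spec
  have h0 : Φ (Additive.ofMul (v' * v⁻¹)) = 0 := by
    rw [ofMul_mul, ofMul_inv, map_add, map_neg, hv', add_neg_cancel]
  have h1 := hk _ h0 (Cfsg.Agent.H34.conj_mem_of_mem_normalizer hg (v' * v⁻¹).2)
  rw [← sub_eq_zero, ← map_sub]
  refine Eq.trans (congrArg Φ ?_) h1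
  refine Additive.toMul.injective (Subtype.ext ?_)
  show g * (v' : G) * g⁻¹ / (g * (v : G) * g⁻¹) = g * ((v' : G) * (v : G)⁻¹) * g⁻¹
  rw [div_eq_mul_inv]
  group

variable [Finite G] {p : ℕ} [Fact p.Prime] {P T M : Subgroup G} {r : ℕ} {E : Fin r → Subgroup G}
  {W : Type*} [AddCommGroup W] [Finite W]

/-- Every offender lies in the product of the components. -/
theorem offender_mem (h : FFP p V P T M) (hEP : ∀ i, E i ≤ P) (hcomm : ∀ i j, i ≠ j → ⁅E i, E j⁆ = ⊥)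
    (hdirect : ∀ i, E i ⊓ (⨆ j ∈ {j | j ≠ i}, E j) = ⊥) (hsup : (⨆ i, E i) ⊔ T = P)
    (hconj : ∀ i j, ∃ t ∈ T, (E i).map (MulAut.conj t).toMonoidHom = E j)
    (hperm : ∀ t ∈ T, ∀ i, ∃ j, cj t (E i) = E j)
    (hdec : (V ⊓ centralizer (((⨆ i, E i) : Subgroup G) : Set G)) ⊔ (⨆ i, ⁅V, E i⁆) = V)
    (hcross : ∀ i j, i ≠ j → ⁅⁅V, E i⁆, E j⁆ = ⊥)
    (i₀ : Fin r) (hpE : p ∣ Nat.card ↥(E i₀)) (hW : 3 ≤ Nat.card W)
    (Ψ : Additive ↥V →+ W) (hker : ∀ v : ↥V, Ψ (Additive.ofMul v) = 0 ↔ (v : G) ∈ centralizer (E i₀ : Set G))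
    (hsurj : ∀ w, ∃ v : ↥V, (v : G) ∈ ⁅V, E i₀⁆ ∧ Ψ (Additive.ofMul v) = w)
    (hfaithE : ∀ e ∈ E i₀, (∀ w, ind Ψ e w = w) → e = 1)
    (hbd : ∀ Y : Subgroup (Equiv.Perm W), (∀ x ∈ Y, ∀ y ∈ Y, x * y = y * x) → (∀ y ∈ Y, y ^ p = 1) →
      (∀ y ∈ Y, ∀ v w, y (v + w) = y v + y w) →
      (∀ y ∈ Y, ∀ e ∈ E i₀, ∃ e' ∈ E i₀, ∀ w, y (ind Ψ e w) = ind Ψ e' (y w)) →
      Nat.card ↥Y * Nat.card {w : W // ∀ y ∈ Y, y w = w} ≤ Nat.card W ∧
        (Nat.card W ≤ Nat.card ↥Y * Nat.card {w : W // ∀ y ∈ Y, y w = w} →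
          ∀ y ∈ Y, ∃ e ∈ E i₀, ∀ w, y w = ind Ψ e w))
    {X : Subgroup G} (hXP : X ≤ P) (hXc : ∀ a ∈ X, ∀ b ∈ X, a * b = b * a) (hXe : ∀ a ∈ X, a ^ p = 1)
    (hlarge : Nat.card V ≤ Nat.card X * Nat.card ↥(V ⊓ centralizer (X : Set G))) :
    X ≤ ⨆ i, E i := by
  classical
  set EE := ⨆ i, E i with hEE
  have hPV := h.hPV
  have hTP := h.hTP
  have hEEP : EE ≤ P := iSup_le hEP
  have hperm' : ∀ g ∈ P, ∀ i, ∃ j, cj g (E i) = E j := by
    let St : Subgroup G :=
      { carrier := {g | (∀ i, ∃ j, cj g (E i) = E j) ∧ ∀ i, ∃ j, cj g⁻¹ (E i) = E j}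
        one_mem' := ⟨fun i => ⟨i, Para.cj_one _⟩, fun i => ⟨i, by rw [inv_one, Para.cj_one]⟩⟩
        mul_mem' := by
          rintro a b ⟨a1, a2⟩ ⟨b1, b2⟩
          refine ⟨fun i => ?_, fun i => ?_⟩
          · obtain ⟨j, hj⟩ := b1 i
            obtain ⟨k, hk⟩ := a1 j
            exact ⟨k, by rw [Para.cj_mul, hj, hk]⟩
          · obtain ⟨j, hj⟩ := a2 i
            obtain ⟨k, hk⟩ := b2 j
            exact ⟨k, by rw [mul_inv_rev, Para.cj_mul, hj, hk]⟩
        inv_mem' := by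
          rintro a ⟨a1, a2⟩
          exact ⟨a2, fun i => by rw [inv_inv]; exact a1 i⟩ }
    have hfix : ∀ k, ∀ g ∈ E k, ∀ i, cj g (E i) = E i := by
      intro k g hg i
      by_cases hki : k = i
      · subst hki; exact cj_eq_self hg
      · exact cj_eq_of_mem_normalizer
          (centralizer_le_normalizer _ (commutator_eq_bot_iff_le_centralizer.1 (hcomm k i hki) hg))
    have hle : P ≤ St := by
      rw [← hsup]
      exact sup_le (iSup_le fun k g hg => ⟨fun i => ⟨i, hfix k g hg i⟩,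
        fun i => ⟨i, hfix k _ (inv_mem hg) i⟩⟩) fun t ht => ⟨hperm t ht, hperm t⁻¹ (T.inv_mem ht)⟩
    exact fun g hg => (hle hg).1
  have hEEn : ∀ g ∈ P, cj g EE = EE := by
    intro g hg
    refine eq_of_le_of_card_ge ?_ (card_cj _ _).ge
    rw [hEE, cj, Subgroup.map_iSup]
    refine iSup_le fun i => ?_
    obtain ⟨j, hj⟩ := hperm' g hg i
    exact hj.le.trans (le_iSup E j)
  -- transport
  choose tt httT htt using fun i => hconj i₀ i
  have httP : ∀ i, tt i ∈ P := fun i => hTP (httT i)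
  have hE0 : ∀ i, cj (tt i)⁻¹ (E i) = E i₀ := fun i => by rw [← htt i]; exact cj_inv_cj _ _
  have hUV : ∀ i, ⁅V, E i⁆ ≤ V := fun i => commutator_le.2 fun v hv g hg => by
    rw [commutatorElement_def, mul_assoc, mul_assoc, ← mul_assoc g]
    exact V.mul_mem hv (h.conj_V (hEP i hg) (V.inv_mem hv))
  let Φi : Fin r → Additive ↥V →+ W := fun i => Ψ.comp (MonoidHom.toAdditive (MonoidHom.mk'
    (fun v : ↥V => (⟨(tt i)⁻¹ * v * tt i, by simpa using h.conj_V (P.inv_mem (httP i)) v.2⟩ : ↥V))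
    (fun a b => Subtype.ext (by simp only [coe_mul]; group))))
  have hΦker : ∀ i (v : ↥V), Φi i (Additive.ofMul v) = 0 ↔ (v : G) ∈ centralizer (E i : Set G) := by
    intro i v
    refine (hker _).trans ?_
    show (tt i)⁻¹ * (v : G) * tt i ∈ centralizer (E i₀ : Set G) ↔ _
    have e : V ⊓ centralizer (E i : Set G) = cj (tt i) (V ⊓ centralizer (E i₀ : Set G)) := by
      rw [← cent_cj (hPV (httP i))]
      show _ = V ⊓ centralizer (((E i₀).map (MulAut.conj (tt i)).toMonoidHom : Subgroup G) : Set G)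
      rw [htt i]
    constructor
    · intro hc
      exact (e.ge (mem_cj.2 ⟨by simpa using h.conj_V (P.inv_mem (httP i)) v.2, hc⟩)).2
    · intro hc
      exact (mem_cj.1 (e.le ⟨v.2, hc⟩)).2
  let Φ : Additive ↥V →+ (Fin r → W) := Pi.addMonoidHom Φi
  have hΦ0 : ∀ v : ↥V, Φ (Additive.ofMul v) = 0 ↔ (v : G) ∈ centralizer (EE : Set G) := by
    intro v
    constructor
    · intro h0
      refine le_centralizer_iff.1 (iSup_le fun i => le_centralizer_iff.1 (zpowers_le.2 ?_)) (mem_zpowers _)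
      exact (hΦker i v).1 (congrFun h0 i)
    · intro hv
      funext i
      exact (hΦker i v).2 (centralizer_le (SetLike.coe_subset_coe.2 (le_iSup E i)) hv)
  have hcrossΦ : ∀ i j, i ≠ j → ∀ v : ↥V, (v : G) ∈ ⁅V, E j⁆ → Φi i (Additive.ofMul v) = 0 := fun i j hij v hv =>
    (hΦker i v).2 (commutator_eq_bot_iff_le_centralizer.1 (hcross j i (Ne.symm hij)) hv)
  have hΦsurj : Function.Surjective Φ := by
    intro f
    have hstep : ∀ s : Finset (Fin r), ∃ v, ∀ i, Φi i v = if i ∈ s then f i else 0 := by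
      intro s
      induction s using Finset.induction with
      | empty => exact ⟨0, fun i => by simp⟩
      | @insert j s hj ih =>
        obtain ⟨v, hv⟩ := ih
        obtain ⟨u, hu, hue⟩ := hsurj (f j)
        have huV : tt j * (u : G) * (tt j)⁻¹ ∈ ⁅V, E j⁆ := by
          have e : cj (tt j) ⁅V, E i₀⁆ ≤ ⁅V, E j⁆ := by
            rw [cj, Subgroup.map_commutator]
            exact commutator_mono (le_of_eq (cj_eq_of_mem_normalizer (hPV (httP j)))) (le_of_eq (htt j))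
          exact e (conj_mem_cj hu)
        refine ⟨Additive.ofMul ⟨tt j * (u : G) * (tt j)⁻¹, hUV j huV⟩ + v, fun i => ?_⟩
        rw [map_add, hv]
        by_cases hij : i = j
        · subst hij
          rw [if_neg hj, add_zero, if_pos (Finset.mem_insert_self _ _), ← hue]
          show Ψ _ = _
          exact congrArg (fun x => Ψ (Additive.ofMul x)) (Subtype.ext (by simp [mul_assoc]))
        · rw [hcrossΦ i j hij _ huV, zero_add]
          simp [Finset.mem_insert, hij]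
    obtain ⟨v, hv⟩ := hstep Finset.univ
    exact ⟨v, funext fun i => (hv i).trans (if_pos (Finset.mem_univ i))⟩
  have hCne : ∀ i j, (∀ v : ↥V, Φi i (Additive.ofMul v) = 0 → Φi j (Additive.ofMul v) = 0) → i = j := by
    intro i j hij
    by_contra hne
    haveI : Nontrivial W := Finite.one_lt_card_iff_nontrivial.1 (by omega)
    obtain ⟨w, hw⟩ := exists_ne (0 : W)
    obtain ⟨v, hv⟩ := hΦsurj (Pi.single j w)
    have h1 := hij (Additive.toMul v) (by
      show Φ v i = 0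
      rw [hv, Pi.single_eq_of_ne hne])
    have h2 : Φ v j = 0 := h1
    rw [hv, Pi.single_eq_same] at h2
    exact hw h2
  -- conjugation moves the kernels
  have hmove : ∀ g ∈ P, ∀ i j, cj g (E i) = E j → ∀ v : ↥V, Φi i (Additive.ofMul v) = 0 →
      ∀ hv : g * (v : G) * g⁻¹ ∈ V, Φi j (Additive.ofMul ⟨g * v * g⁻¹, hv⟩) = 0 := by
    intro g hg i j hij v hv0 hv
    rw [hΦker] at hv0 ⊢
    have : g * (v : G) * g⁻¹ ∈ V ⊓ centralizer (E j : Set G) := by
      rw [← hij, cent_cj (hPV hg)]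
      exact conj_mem_cj ⟨v.2, hv0⟩
    exact this.2
  have hKΦ : ∀ g ∈ P, KerPres Φ g := by
    intro g hg v hv0 hv
    funext j
    obtain ⟨i, hi⟩ := hperm' g⁻¹ (P.inv_mem hg) j
    exact hmove g hg i j (by rw [← hi, cj_cj_inv]) v (congrFun hv0 i) hv
  have hKΨ : ∀ g ∈ P, cj g (E i₀) = E i₀ → KerPres Ψ g := by
    intro g hg hgE v hv0 hv
    rw [hker] at hv0 ⊢
    have : g * (v : G) * g⁻¹ ∈ V ⊓ centralizer (E i₀ : Set G) := by
      rw [← hgE, cent_cj (hPV hg)]
      exact conj_mem_cj ⟨v.2, hv0⟩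
    exact this.2
  have hsurjV : ∀ w, ∃ v : ↥V, Ψ (Additive.ofMul v) = w := fun w => (hsurj w).imp fun _ h' => h'.2
  have hindadd : ∀ g ∈ P, cj g (E i₀) = E i₀ → ∀ v w, ind Ψ g (v + w) = ind Ψ g v + ind Ψ g w := by
    intro g hg hgE v w
    obtain ⟨a, rfl⟩ := hsurjV v
    obtain ⟨b, rfl⟩ := hsurjV w
    rw [← map_add, ← ofMul_mul, ind_eq (hPV hg) (hKΨ g hg hgE), ind_eq (hPV hg) (hKΨ g hg hgE),
      ind_eq (hPV hg) (hKΨ g hg hgE), ← map_add, ← ofMul_mul]
    exact congrArg (fun x => Ψ (Additive.ofMul x)) (Subtype.ext (by simp only [coe_mul]; group))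
  have hindmul : ∀ g ∈ P, cj g (E i₀) = E i₀ → ∀ k ∈ P, cj k (E i₀) = E i₀ →
      ∀ w, ind Ψ (g * k) w = ind Ψ g (ind Ψ k w) := by
    intro g hg hgE k hk hkE w
    obtain ⟨a, rfl⟩ := hsurjV w
    rw [ind_eq (hPV (P.mul_mem hg hk)) (hKΨ _ (P.mul_mem hg hk) (by rw [Para.cj_mul, hkE, hgE])),
      ind_eq (hPV hk) (hKΨ k hk hkE), ind_eq (hPV hg) (hKΨ g hg hgE)]
    exact congrArg (fun x => Ψ (Additive.ofMul x)) (Subtype.ext (by group))
  have hindone : ∀ w, ind Ψ 1 w = w := by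
    intro w
    obtain ⟨a, rfl⟩ := hsurjV w
    rw [ind_eq (one_mem _) (hKΨ 1 P.one_mem (Para.cj_one _))]
    exact congrArg (fun x => Ψ (Additive.ofMul x)) (Subtype.ext (by simp))
  -- coordinates of an element fixing a component
  have hcoordΨ : ∀ g ∈ P, ∀ i, cj g (E i) = E i → ∀ (v : ↥V) (hv : g * (v : G) * g⁻¹ ∈ V),
      Φi i (Additive.ofMul ⟨g * v * g⁻¹, hv⟩) =
        ind Ψ ((tt i)⁻¹ * g * tt i) (Φi i (Additive.ofMul v)) := by
    intro g hg i hgi v hv
    have hg'P : (tt i)⁻¹ * g * tt i ∈ P := P.mul_mem (P.mul_mem (P.inv_mem (httP i)) hg) (httP i)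
    have hg'E : cj ((tt i)⁻¹ * g * tt i) (E i₀) = E i₀ := by
      rw [Para.cj_mul, Para.cj_mul, show cj (tt i) (E i₀) = E i from htt i, hgi, hE0]
    show Ψ _ = ind Ψ _ (Ψ (Additive.ofMul _))
    rw [ind_eq (hPV hg'P) (hKΨ _ hg'P hg'E)]
    exact congrArg (fun x => Ψ (Additive.ofMul x)) (Subtype.ext (by simp [mul_assoc]))
  -- the kernel of the action
  set D := P ⊓ centralizer (EE : Set G)
  have hDn : ∀ k ∈ P, cj k D = D := by
    intro k hk
    refine eq_of_le_of_card_ge (le_inf ((cj_mono k inf_le_left).trans (cj_le_self hk)) ?_) (card_cj _ _).ge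
    rintro _ ⟨d, hd, rfl⟩
    refine mem_centralizer_iff.2 fun e he => ?_
    have he' : k⁻¹ * e * k ∈ EE := mem_cj.1 ((hEEn k hk).ge he)
    have e1 := mem_centralizer_iff.1 hd.2 _ he'
    show e * (k * d * k⁻¹) = k * d * k⁻¹ * e
    calc e * (k * d * k⁻¹) = k * (k⁻¹ * e * k * d) * k⁻¹ := by group
      _ = k * (d * (k⁻¹ * e * k)) * k⁻¹ := by rw [e1]
      _ = _ := by group
  have hDM : D ≤ M := by
    by_contra hDM
    have hsupD : D ⊔ T = P := by
      by_contra hne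
      exact hDM (le_sup_left.trans (h.pm.max _ (sup_le inf_le_left hTP) le_sup_right hne))
    set Q := T ⊓ EE
    have hQ : P ≤ normalizer (Q : Set G) := by
      rw [← hsupD]
      refine sup_le (fun d hd => ?_) fun t ht => ?_
      · exact centralizer_le_normalizer _ (centralizer_le (SetLike.coe_subset_coe.2 inf_le_right) hd.2)
      · refine mem_normalizer_of_cj_eq (eq_of_le_of_card_ge (le_inf ?_ ?_) (card_cj _ _).ge)
        · exact (cj_mono t inf_le_left).trans (cj_le_self ht)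
        · exact (cj_mono t inf_le_right).trans (hEEn t (hTP ht)).le
    have hQbot := h.op1 Q (inf_le_left.trans hTP) (h.pm.Tp.to_le inf_le_left) hQ
    obtain ⟨a, ha⟩ := exists_prime_orderOf_dvd_card' p hpE
    have ha' : orderOf (a : G) = p := by rw [orderOf_coe, ha]
    have hap : IsPGroup p ↥(zpowers (a : G)) := IsPGroup.of_card (n := 1) (by rw [Nat.card_zpowers, ha', pow_one])
    have haEE : (a : G) ∈ EE := le_iSup E i₀ a.2
    obtain ⟨x, hx, hxT⟩ := h.pm.sylow_conj le_rfl hTP (zpowers_le.2 (hEEP haEE)) hap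
    have h1 : x * (a : G) * x⁻¹ ∈ Q := ⟨hxT (conj_mem_cj (mem_zpowers _)), (hEEn x hx).le (conj_mem_cj haEE)⟩
    rw [hQbot, mem_bot, conj_eq_one_iff] at h1
    rw [h1, orderOf_one] at ha'
    exact (Fact.out : p.Prime).ne_one ha'.symm
  have hDcop : ∀ d ∈ D, ¬ p ∣ orderOf d := fun d hd => h.pm.coprime_of_le h.op1 hDM hDn hd
  have hDEE : D ≤ EE := by
    intro d hd
    have hdP : d ∈ EE ⊔ T := hsup.symm ▸ hd.1
    have hn : T ≤ normalizer (EE : Set G) := fun t ht => mem_normalizer_of_cj_eq (hEEn t (hTP ht))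
    obtain ⟨k, hk⟩ : ∃ k, d ^ p ^ k ∈ EE := by
      rw [← SetLike.mem_coe, coe_mul_of_right_le_normalizer_left _ _ hn] at hdP
      obtain ⟨e, he, t, ht, rfl⟩ := hdP
      obtain ⟨k, hk⟩ := h.pm.Tp ⟨t, ht⟩
      refine ⟨k, ?_⟩
      have key : ∀ m : ℕ, ∃ e' ∈ EE, (e * t) ^ m = e' * t ^ m := by
        intro m
        induction m with
        | zero => exact ⟨1, one_mem _, by simp⟩
        | succ m ih =>
          obtain ⟨e', he', ee⟩ := ih
          refine ⟨e' * (t ^ m * e * (t ^ m)⁻¹), EE.mul_mem he'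
            ((hEEn _ (P.pow_mem (hTP ht) m)).le (conj_mem_cj he)), ?_⟩
          rw [pow_succ, ee, pow_succ]; group
      obtain ⟨e', he', ee⟩ := key (p ^ k)
      have : t ^ p ^ k = 1 := by simpa using congrArg Subtype.val hk
      rw [ee, this, mul_one]; exact he'
    have hcop : Nat.Coprime (p ^ k) (orderOf d) :=
      ((Fact.out : p.Prime).coprime_iff_not_dvd.2 (hDcop d hd)).pow_left k
    obtain ⟨m, hm⟩ := exists_pow_eq_self_of_coprime hcop
    rw [← hm]; exact EE.pow_mem hk m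
  have htriv : ∀ y (hy : y ∈ P), (∀ v : ↥V, Φ (Additive.ofMul ⟨y * v * y⁻¹, h.conj_V hy v.2⟩) =
      Φ (Additive.ofMul v)) → y ∈ D := by
    intro y hy hyΦ
    refine ⟨hy, le_centralizer_iff.1 (iSup_le fun i => le_centralizer_iff.1 (zpowers_le.2 ?_)) (mem_zpowers _)⟩
    obtain ⟨j, hj⟩ := hperm' y hy i
    obtain rfl : i = j := hCne i j fun v hv => by
      have := hmove y hy i j hj v hv (h.conj_V hy v.2)
      exact (congrFun (hyΦ v) j).symm.trans this
    refine mem_centralizer_iff.2 fun e he => ?_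
    have hk : y * e * y⁻¹ * e⁻¹ ∈ E i := mul_mem (hj.le (conj_mem_cj he)) (inv_mem he)
    have hkP := hEP i hk
    have hk0 : (tt i)⁻¹ * (y * e * y⁻¹ * e⁻¹) * tt i ∈ E i₀ := by
      rw [← hE0 i]; simpa using conj_mem_cj (x := (tt i)⁻¹) hk
    have h1 := hfaithE _ hk0 fun w => by
      obtain ⟨a, ha, haw⟩ := hsurj w
      set v : ↥V := ⟨tt i * (a : G) * (tt i)⁻¹, h.conj_V (httP i) a.2⟩
      have hva : Φi i (Additive.ofMul v) = w := by
        show Ψ _ = _
        rw [← haw]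
        exact congrArg (fun x => Ψ (Additive.ofMul x)) (Subtype.ext (by simp [v, mul_assoc]))
      rw [← hva, ← hcoordΨ _ hkP i (cj_eq_self hk) v (h.conj_V hkP v.2)]
      -- `y` acts trivially on the section
      have hy' : ∀ (u : ↥V) (hu : y * (u : G) * y⁻¹ ∈ V),
          Φi i (Additive.ofMul ⟨y * u * y⁻¹, hu⟩) = Φi i (Additive.ofMul u) := fun u _ => congrFun (hyΦ u) i
      have heP := hEP i he
      have hm : ∀ u : ↥V, ∀ g, g ∈ E i → ∀ (u' : ↥V), Φi i (Additive.ofMul u) = Φi i (Additive.ofMul u') →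
          ∀ (h1 : g * (u : G) * g⁻¹ ∈ V) (h2 : g * (u' : G) * g⁻¹ ∈ V),
          Φi i (Additive.ofMul ⟨_, h1⟩) = Φi i (Additive.ofMul ⟨_, h2⟩) := by
        intro u g hg u' huu h1 h2
        rw [hcoordΨ g (hEP i hg) i (cj_eq_self hg), hcoordΨ g (hEP i hg) i (cj_eq_self hg), huu]
      set u₁ : ↥V := ⟨e⁻¹ * v * e, by simpa using h.conj_V (P.inv_mem heP) v.2⟩
      set u₂ : ↥V := ⟨y⁻¹ * u₁ * y, by simpa using h.conj_V (P.inv_mem hy) u₁.2⟩
      have e1 : Φi i (Additive.ofMul u₂) = Φi i (Additive.ofMul u₁) := by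
        rw [← hy' u₂ (h.conj_V hy u₂.2)]
        exact congrArg (fun x => Φi i (Additive.ofMul x)) (Subtype.ext (by simp [u₂, mul_assoc]))
      have e2 := hm u₂ e he u₁ e1 (h.conj_V heP u₂.2) (h.conj_V heP u₁.2)
      calc _ = Φi i (Additive.ofMul ⟨y * ((⟨e * u₂ * e⁻¹, h.conj_V heP u₂.2⟩ : ↥V) : G) * y⁻¹,
              h.conj_V hy (h.conj_V heP u₂.2)⟩) :=
            congrArg (fun x => Φi i (Additive.ofMul x)) (Subtype.ext (by simp [u₁, u₂, mul_assoc]))
        _ = Φi i (Additive.ofMul ⟨e * u₁ * e⁻¹, h.conj_V heP u₁.2⟩) := (hy' _ _).trans e2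
        _ = _ := congrArg (fun x => Φi i (Additive.ofMul x)) (Subtype.ext (by simp [u₁, mul_assoc]))
    have h2 : y * e * y⁻¹ * e⁻¹ = 1 := by
      have := congrArg (fun x => tt i * x * (tt i)⁻¹) h1
      simpa [mul_assoc] using this
    have h3 := mul_inv_eq_one.1 h2
    calc e * y = y * e * y⁻¹ * y := by rw [h3]
      _ = y * e := by group
  -- the action on the sections
  have hEne : ∀ i, E i ≠ ⊥ := by
    intro i hbot
    obtain ⟨t, -, ht⟩ := hconj i i₀
    rw [hbot, Subgroup.map_bot] at ht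
    rw [← ht, card_bot] at hpE
    exact (Fact.out : p.Prime).one_lt.ne' (Nat.dvd_one.1 hpE)
  have hEinj : ∀ i j, E i = E j → i = j := by
    intro i j hij
    by_contra hne
    exact hEne i (le_bot_iff.1 ((hdirect i) ▸ le_inf le_rfl
      (hij.le.trans (le_iSup₂ (f := fun j (_ : j ∈ {j | j ≠ i}) => E j) j (Ne.symm hne)))))
  letI : CommGroup ↥X :=
    { (inferInstance : Group ↥X) with mul_comm := fun a b => Subtype.ext (hXc a a.2 b b.2) }
  choose σf hσf using fun (x : ↥X) i => hperm' (x : G) (hXP x.2) i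
  have hσmul : ∀ a b i, σf (a * b) i = σf a (σf b i) := fun a b i => hEinj _ _ (by
    rw [← hσf, ← hσf, ← hσf, ← Para.cj_mul]; rfl)
  have hσone : ∀ i, σf 1 i = i := fun i => hEinj _ _ (by rw [← hσf]; exact Para.cj_one _)
  let σ : ↥X →* Equiv.Perm (Fin r) := MonoidHom.mk'
    (fun x => ⟨σf x, σf x⁻¹, fun i => by rw [← hσmul, inv_mul_cancel, hσone],
      fun i => by rw [← hσmul, mul_inv_cancel, hσone]⟩)
    (fun a b => Equiv.ext fun i => hσmul a b i)
  have hρeq : ∀ (x : ↥X) (v : ↥V), ind Φ (x : G) (Φ (Additive.ofMul v)) =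
      Φ (Additive.ofMul ⟨x * v * (x : G)⁻¹, h.conj_V (hXP x.2) v.2⟩) := fun x v =>
    ind_eq (hPV (hXP x.2)) (hKΦ _ (hXP x.2)) v
  have hρmul : ∀ (a b : ↥X) f, ind Φ ((a * b : ↥X) : G) f = ind Φ (a : G) (ind Φ (b : G) f) := by
    intro a b f
    obtain ⟨v, rfl⟩ := hΦsurj f
    obtain ⟨v, rfl⟩ := Additive.ofMul.surjective v
    rw [hρeq, hρeq, hρeq]
    exact congrArg (fun x => Φ (Additive.ofMul x)) (Subtype.ext (by simp [mul_assoc]))
  have hρone : ∀ f, ind Φ ((1 : ↥X) : G) f = f := by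
    intro f
    obtain ⟨v, rfl⟩ := hΦsurj f
    obtain ⟨v, rfl⟩ := Additive.ofMul.surjective v
    rw [hρeq]
    exact congrArg (fun x => Φ (Additive.ofMul x)) (Subtype.ext (by simp))
  let ρ : ↥X →* Equiv.Perm (Fin r → W) := MonoidHom.mk'
    (fun x => ⟨ind Φ (x : G), ind Φ ((x⁻¹ : ↥X) : G), fun f => by rw [← hρmul, inv_mul_cancel, hρone],
      fun f => by rw [← hρmul, mul_inv_cancel, hρone]⟩)
    (fun a b => Equiv.ext fun f => hρmul a b f)
  have hloc : ∀ x f f' i, f i = f' i → ρ x f (σ x i) = ρ x f' (σ x i) := by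
    intro x f f' i hff
    obtain ⟨v, rfl⟩ := hΦsurj f
    obtain ⟨v', rfl⟩ := hΦsurj f'
    obtain ⟨v, rfl⟩ := Additive.ofMul.surjective v
    obtain ⟨v', rfl⟩ := Additive.ofMul.surjective v'
    show ind Φ (x : G) _ (σf x i) = ind Φ (x : G) _ (σf x i)
    rw [hρeq, hρeq]
    have h0 : Φi i (Additive.ofMul (v * v'⁻¹)) = 0 := by
      rw [ofMul_mul, ofMul_inv, map_add, map_neg, show Φi i (Additive.ofMul v) = Φi i (Additive.ofMul v') from hff,
        add_neg_cancel]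
    have h1 := hmove _ (hXP x.2) i (σf x i) (hσf x i) _ h0 (h.conj_V (hXP x.2) (v * v'⁻¹).2)
    rw [← sub_eq_zero]
    show Φi _ _ - Φi _ _ = 0
    rw [← map_sub]
    refine Eq.trans (congrArg (Φi _) (Additive.toMul.injective (Subtype.ext ?_))) h1
    simp only [toMul_sub, toMul_ofMul, div_eq_mul_inv, coe_mul, coe_inv]
    group
  have hfaith : Function.Injective ρ := by
    refine (injective_iff_map_eq_one ρ).2 fun x hx => ?_
    have hxD := htriv (x : G) (hXP x.2) fun v => by rw [← hρeq]; exact Equiv.ext_iff.1 hx _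
    by_contra hx1
    refine hDcop _ hxD ?_
    rw [orderOf_eq_prime (hXe _ x.2) fun e => hx1 (Subtype.ext e)]
  -- coordinate subgroups
  have hcoord : ∀ (x : ↥X) i g, coord ρ σ x i g ↔ σ x i = i ∧ g = ind Ψ ((tt i)⁻¹ * x * tt i) := by
    intro x i g
    have key : σ x i = i → ∀ f, ρ x f i = ind Ψ ((tt i)⁻¹ * x * tt i) (f i) := by
      intro hi f
      obtain ⟨v, rfl⟩ := hΦsurj f
      obtain ⟨v, rfl⟩ := Additive.ofMul.surjective v
      show ind Φ (x : G) _ i = _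
      rw [hρeq]
      exact hcoordΨ _ (hXP x.2) i (by rw [hσf, show σf x i = i from hi]) v _
    constructor
    · rintro ⟨hi, hg⟩
      exact ⟨hi, funext fun w => (hg fun _ => w).symm.trans (key hi _)⟩
    · rintro ⟨hi, rfl⟩
      exact ⟨hi, key hi⟩
  have hgN : ∀ (x : ↥X) i, σ x i = i →
      (tt i)⁻¹ * x * tt i ∈ P ∧ cj ((tt i)⁻¹ * x * tt i) (E i₀) = E i₀ := fun x i hi =>
    ⟨P.mul_mem (P.mul_mem (P.inv_mem (httP i)) (hXP x.2)) (httP i), by
      rw [Para.cj_mul, Para.cj_mul, show cj (tt i) (E i₀) = E i from htt i, hσf, show σf x i = i from hi, hE0]⟩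
  let Ys : Fin r → Subgroup (Equiv.Perm W) := fun i =>
    { carrier := {y | ∃ x : ↥X, coord ρ σ x i y}
      one_mem' := ⟨1, by rw [map_one]; rfl, fun f => by rw [map_one]; rfl⟩
      mul_mem' := by
        rintro a b ⟨x, hxi, hxf⟩ ⟨x', hx'i, hx'f⟩
        refine ⟨x * x', ?_, fun f => ?_⟩
        · rw [map_mul, Equiv.Perm.mul_apply, hx'i, hxi]
        · rw [map_mul, Equiv.Perm.mul_apply, hxf, hx'f]; rfl
      inv_mem' := by
        rintro a ⟨x, hxi, hxf⟩
        refine ⟨x⁻¹, ?_, fun f => ?_⟩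
        · rw [map_inv, Equiv.Perm.inv_eq_iff_eq, hxi]
        · have := hxf (ρ x⁻¹ f)
          rw [← Equiv.Perm.mul_apply, ← map_mul, mul_inv_cancel, map_one, Equiv.Perm.one_apply] at this
          show ρ x⁻¹ f i = a⁻¹ (f i)
          rw [this, perm_inv_apply] }
  have hperm_of : ∀ i g, (∃ x : ↥X, coord ρ σ x i g) → ∃ y ∈ Ys i, (⇑y : W → W) = g := by
    rintro i g ⟨x, hx⟩
    obtain ⟨hi, rfl⟩ := (hcoord x i g).1 hx
    obtain ⟨hgP, hgE⟩ := hgN x i hi
    have hgE' : cj ((tt i)⁻¹ * x * tt i)⁻¹ (E i₀) = E i₀ := by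
      have := congrArg (cj ((tt i)⁻¹ * x * tt i)⁻¹) hgE
      rw [cj_inv_cj] at this
      exact this.symm
    refine ⟨⟨ind Ψ ((tt i)⁻¹ * x * tt i), ind Ψ ((tt i)⁻¹ * x * tt i)⁻¹, fun w => ?_, fun w => ?_⟩, ⟨x, hx⟩, rfl⟩
    · rw [← hindmul _ (P.inv_mem hgP) hgE' _ hgP hgE, inv_mul_cancel, hindone]
    · rw [← hindmul _ hgP hgE _ (P.inv_mem hgP) hgE', mul_inv_cancel, hindone]
  have hcards : ∀ i, Nat.card {g : W → W // ∃ x, coord ρ σ x i g} = Nat.card ↥(Ys i) ∧
      Nat.card {w : W // ∀ x g, coord ρ σ x i g → g w = w} = Nat.card {w : W // ∀ y ∈ Ys i, y w = w} := by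
    intro i
    refine ⟨(Nat.card_congr (Equiv.ofBijective
      (fun y : ↥(Ys i) => (⟨⇑(y : Equiv.Perm W), y.2⟩ : {g : W → W // ∃ x, coord ρ σ x i g})) ⟨?_, ?_⟩)).symm,
      Nat.card_congr (Equiv.subtypeEquivRight fun w => ⟨?_, ?_⟩)⟩
    · intro a b e
      exact Subtype.ext (DFunLike.coe_injective (congrArg Subtype.val e))
    · rintro ⟨g, hg⟩
      obtain ⟨y, hy, rfl⟩ := hperm_of i g hg
      exact ⟨⟨y, hy⟩, rfl⟩
    · intro hw y hy
      obtain ⟨x, hx⟩ := hy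
      exact hw x _ hx
    · intro hw x g hg
      obtain ⟨y, hy, rfl⟩ := hperm_of i g ⟨x, hg⟩
      exact hw y hy
  have hYbd : ∀ i, Nat.card ↥(Ys i) * Nat.card {w : W // ∀ y ∈ Ys i, y w = w} ≤ Nat.card W ∧
      (Nat.card W ≤ Nat.card ↥(Ys i) * Nat.card {w : W // ∀ y ∈ Ys i, y w = w} →
        ∀ y ∈ Ys i, ∃ e ∈ E i₀, ∀ w, y w = ind Ψ e w) := by
    intro i
    refine hbd (Ys i) ?_ ?_ ?_ ?_
    · rintro a ⟨x, hx⟩ b ⟨x', hx'⟩
      obtain ⟨hi, e⟩ := (hcoord x i _).1 hx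
      obtain ⟨hi', e'⟩ := (hcoord x' i _).1 hx'
      obtain ⟨hP1, hE1⟩ := hgN x i hi
      obtain ⟨hP2, hE2⟩ := hgN x' i hi'
      ext w
      rw [Equiv.Perm.mul_apply, Equiv.Perm.mul_apply, e, e', ← hindmul _ hP1 hE1 _ hP2 hE2,
        ← hindmul _ hP2 hE2 _ hP1 hE1]
      congr 1
      calc (tt i)⁻¹ * x * tt i * ((tt i)⁻¹ * x' * tt i) = (tt i)⁻¹ * ((x : G) * x') * tt i := by group
        _ = (tt i)⁻¹ * ((x' : G) * x) * tt i := by rw [hXc x x.2 x' x'.2]
        _ = _ := by group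
    · rintro a ⟨x, hxi, hxf⟩
      have key : ∀ (m : ℕ) f, ρ (x ^ m) f i = (a ^ m) (f i) := by
        intro m
        induction m with
        | zero => intro f; rw [pow_zero, map_one]; rfl
        | succ m ih =>
          intro f
          rw [pow_succ', map_mul, Equiv.Perm.mul_apply, hxf, ih, pow_succ', Equiv.Perm.mul_apply]
      ext w
      have := key p fun _ => w
      rw [show x ^ p = 1 from Subtype.ext (by simpa using hXe _ x.2), map_one] at this
      exact this.symm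
    · rintro a ⟨x, hx⟩ v w
      obtain ⟨hi, e⟩ := (hcoord x i _).1 hx
      obtain ⟨hP1, hE1⟩ := hgN x i hi
      simp only [e]
      exact hindadd _ hP1 hE1 v w
    · rintro a ⟨x, hx⟩ k hk
      obtain ⟨hi, e⟩ := (hcoord x i _).1 hx
      obtain ⟨hP1, hE1⟩ := hgN x i hi
      set g := (tt i)⁻¹ * (x : G) * tt i
      have hk' : g * k * g⁻¹ ∈ E i₀ := hE1.le (conj_mem_cj hk)
      refine ⟨_, hk', fun w => ?_⟩
      simp only [e]
      rw [← hindmul _ hP1 hE1 _ (hEP i₀ hk) (cj_eq_self hk),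
        ← hindmul _ (hEP i₀ hk') (cj_eq_self hk') _ hP1 hE1, inv_mul_cancel_right]
  obtain ⟨-, heq⟩ := orbit_bound ρ σ hloc hfaith (by omega) fun i => by
    rw [(hcards i).1, (hcards i).2]; exact (hYbd i).1
  have hbig : Nat.card W ^ Fintype.card (Fin r) ≤ Nat.card ↥X * Nat.card {f : Fin r → W // ∀ x, ρ x f = f} := by
    set C := V ⊓ centralizer (X : Set G)
    set K := Φ.ker
    have hK : Nat.card (Fin r → W) * Nat.card ↥K = Nat.card ↥V := by
      rw [← Nat.card_congr (QuotientAddGroup.quotientKerEquivOfSurjective Φ hΦsurj).toEquiv,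
        ← AddSubgroup.card_eq_card_quotient_mul_card_addSubgroup]
      rfl
    let ι : Additive ↥C →+ Additive ↥V := MonoidHom.toAdditive (inclusion inf_le_left)
    let Φc := Φ.comp ι
    have hC : Nat.card ↥C ≤ Nat.card {f : Fin r → W // ∀ x, ρ x f = f} * Nat.card ↥K := by
      have e1 : Nat.card (Additive ↥C) = Nat.card ↥Φc.range * Nat.card ↥Φc.ker := by
        rw [← Nat.card_congr (QuotientAddGroup.quotientKerEquivRange Φc).toEquiv,
          ← AddSubgroup.card_eq_card_quotient_mul_card_addSubgroup]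
      show Nat.card (Additive ↥C) ≤ _
      rw [e1]
      refine Nat.mul_le_mul ?_ ?_
      · refine Nat.card_le_card_of_injective (fun f => ⟨f.1, fun x => ?_⟩) fun a b e =>
          Subtype.ext (Subtype.mk.inj e)
        obtain ⟨_, v, rfl⟩ := f
        obtain ⟨v, rfl⟩ := Additive.ofMul.surjective v
        show ind Φ (x : G) (Φ (Additive.ofMul (inclusion inf_le_left v))) = _
        rw [hρeq]
        refine congrArg (fun u => Φ (Additive.ofMul u)) (Subtype.ext ?_)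
        show (x : G) * (v : G) * (x : G)⁻¹ = v
        rw [mem_centralizer_iff.1 v.2.2 x x.2, mul_inv_cancel_right]
      · refine Nat.card_le_card_of_injective (fun u : ↥Φc.ker => (⟨ι u.1, u.2⟩ : ↥K)) fun a b e => ?_
        refine Subtype.ext (Additive.toMul.injective (Subtype.ext ?_))
        exact congrArg (fun z : ↥K => ((Additive.toMul z.1 : ↥V) : G)) e
    rw [Nat.card_fun, Nat.card_fin] at hK
    rw [Fintype.card_fin]
    refine Nat.le_of_mul_le_mul_right ?_ (Nat.card_pos (α := ↥K))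
    rw [hK, mul_assoc]
    exact hlarge.trans (Nat.mul_le_mul_left _ hC)
  have hall := heq hW hbig
  intro x hx
  set xx : ↥X := ⟨x, hx⟩
  have hxP := hXP hx
  have hxi : ∀ i, σ xx i = i := fun i => (hall i).1 xx
  -- match `x` on each section
  have hmatch : ∀ i, ∃ e ∈ E i, ∀ v : ↥V, ∀ (h1 : x * (v : G) * x⁻¹ ∈ V) (h2 : e * (v : G) * e⁻¹ ∈ V),
      Φi i (Additive.ofMul ⟨_, h1⟩) = Φi i (Additive.ofMul ⟨_, h2⟩) := by
    intro i
    have hle := (hall i).2
    rw [(hcards i).1, (hcards i).2] at hle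
    obtain ⟨y, hy, hye⟩ := hperm_of i _ ⟨xx, (hcoord xx i _).2 ⟨hxi i, rfl⟩⟩
    obtain ⟨k, hk, hkw⟩ := (hYbd i).2 hle y hy
    have hk' : tt i * k * (tt i)⁻¹ ∈ E i := (htt i).le (conj_mem_cj hk)
    refine ⟨_, hk', fun v h1 h2 => ?_⟩
    rw [hcoordΨ x hxP i (by rw [show x = (xx : G) from rfl, hσf, show σf xx i = i from hxi i]) v h1,
      hcoordΨ _ (hEP i hk') i (cj_eq_self hk') v h2,
      show (tt i)⁻¹ * (tt i * k * (tt i)⁻¹) * tt i = k by group, ← hkw, hye]
  choose ee hee heq' using hmatch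
  have hE1 : ∀ i j, i ≠ j → ∀ g ∈ E j, ∀ v : ↥V, ∀ h1 : g * (v : G) * g⁻¹ ∈ V,
      Φi i (Additive.ofMul ⟨_, h1⟩) = Φi i (Additive.ofMul v) := by
    intro i j hij g hg v h1
    have hu : (((⟨_, h1⟩ : ↥V) * v⁻¹ : ↥V) : G) ∈ ⁅V, E j⁆ := by
      show g * (v : G) * g⁻¹ * (v : G)⁻¹ ∈ _
      rw [commutator_comm]
      exact commutator_mem_commutator hg v.2
    have h0 := hcrossΦ i j hij _ hu
    rw [ofMul_mul, ofMul_inv, map_add, map_neg, ← sub_eq_add_neg, sub_eq_zero] at h0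
    exact h0
  have hprod : ∀ s : Finset (Fin r), ∃ e ∈ EE, ∀ i, ∀ v : ↥V, ∀ h1 : e * (v : G) * e⁻¹ ∈ V,
      ∀ h2 : ee i * (v : G) * (ee i)⁻¹ ∈ V, Φi i (Additive.ofMul ⟨_, h1⟩) =
        if i ∈ s then Φi i (Additive.ofMul ⟨_, h2⟩) else Φi i (Additive.ofMul v) := by
    intro s
    induction s using Finset.induction with
    | empty =>
      exact ⟨1, one_mem _, fun i v h1 h2 => by
        simp only [Finset.notMem_empty, if_false]
        exact congrArg (fun u => Φi i (Additive.ofMul u)) (Subtype.ext (by simp))⟩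
    | @insert j s hj ih =>
      obtain ⟨e, he, hes⟩ := ih
      refine ⟨ee j * e, mul_mem (le_iSup E j (hee j)) he, fun i v h1 h2 => ?_⟩
      have hw : e * (v : G) * e⁻¹ ∈ V := h.conj_V (hEEP he) v.2
      have hw' : ee j * (e * (v : G) * e⁻¹) * (ee j)⁻¹ ∈ V := h.conj_V (hEP j (hee j)) hw
      have hsplit : (⟨_, h1⟩ : ↥V) = ⟨_, hw'⟩ := Subtype.ext (by group)
      rw [hsplit]
      by_cases hij : i = j
      · subst hij
        rw [if_pos (Finset.mem_insert_self _ _)]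
        have e1 := hes i v hw h2
        rw [if_neg hj] at e1
        rw [hcoordΨ _ (hEP i (hee i)) i (cj_eq_self (hee i)) ⟨_, hw⟩ hw',
          hcoordΨ _ (hEP i (hee i)) i (cj_eq_self (hee i)) v h2, e1]
      · have e2 := hE1 i j hij (ee j) (hee j) ⟨_, hw⟩ hw'
        rw [e2, hes i v hw h2]
        simp [Finset.mem_insert, hij]
  obtain ⟨e, heE, hes⟩ := hprod Finset.univ
  have hyP : e⁻¹ * x ∈ P := P.mul_mem (P.inv_mem (hEEP heE)) hxP
  have hy : e⁻¹ * x ∈ EE := hDEE (htriv _ hyP fun v => by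
    funext i
    show Φi i _ = Φi i _
    have heP := hEEP heE
    have hw : x * (v : G) * x⁻¹ ∈ V := h.conj_V hxP v.2
    have e1 := heq' i v hw (h.conj_V (hEP i (hee i)) v.2)
    have e2 := hes i v (h.conj_V heP v.2) (h.conj_V (hEP i (hee i)) v.2)
    rw [if_pos (Finset.mem_univ i), ← e1] at e2
    have hK : Φi i (Additive.ofMul ((⟨_, hw⟩ : ↥V) * (⟨_, h.conj_V heP v.2⟩ : ↥V)⁻¹)) = 0 := by
      rw [ofMul_mul, ofMul_inv, map_add, map_neg, e2, add_neg_cancel]
    have hei : cj e⁻¹ (E i) = E i := by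
      refine cj_eq_of_mem_normalizer (inv_mem ((iSup_le fun j g hg => ?_ : EE ≤ normalizer (E i : Set G)) heE))
      by_cases hji : j = i
      · subst hji; exact le_normalizer hg
      · exact centralizer_le_normalizer _ (commutator_eq_bot_iff_le_centralizer.1 (hcomm j i hji) hg)
    have h3 := hmove e⁻¹ (P.inv_mem heP) i i hei _ hK (h.conj_V (P.inv_mem heP)
      ((⟨_, hw⟩ : ↥V) * (⟨_, h.conj_V heP v.2⟩ : ↥V)⁻¹).2)
    rw [← sub_eq_zero, ← map_sub]
    refine Eq.trans (congrArg (Φi i) (Additive.toMul.injective (Subtype.ext ?_))) h3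
    simp only [toMul_sub, toMul_ofMul, div_eq_mul_inv, coe_mul, coe_inv]
    group)
  have := EE.mul_mem heE hy
  simpa using this

end Cfsg.Agent.H34.Star
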