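import Cfsg.Agent.H34.Star.OffenderIn
import Mathlib

/-!
Offenders lie in the product of the components: the two kinds of natural sections.
-/

set_option autoImplicit false
set_option linter.style.haveILetI false
set_option linter.unusedSectionVars false
set_option maxHeartbeats 1000000

namespace Cfsg.Agent.H34.Star

open Subgroup
open Cfsg.Agent.H34.MinOffender
open Cfsg.Agent.H34.Para
open scoped commutatorElement

variable {G : Type*} [Group G] [Finite G] {p : ℕ} [Fact p.Prime] {V P T M : Subgroup G} {r : ℕ}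
  {E : Fin r → Subgroup G}

/-- Offenders lie in the product of the components, for components with a natural section. -/
theorem offender_mem_of_section (h : FFP p V P T M) (hEP : ∀ i, E i ≤ P)
    (hcomm : ∀ i j, i ≠ j → ⁅E i, E j⁆ = ⊥) (hdirect : ∀ i, E i ⊓ (⨆ j ∈ {j | j ≠ i}, E j) = ⊥)
    (hsup : (⨆ i, E i) ⊔ T = P) (hconj : ∀ i j, ∃ t ∈ T, (E i).map (MulAut.conj t).toMonoidHom = E j)
    (hperm : ∀ t ∈ T, ∀ i, ∃ j, cj t (E i) = E j)
    (hdec : (V ⊓ centralizer (((⨆ i, E i) : Subgroup G) : Set G)) ⊔ (⨆ i, ⁅V, E i⁆) = V)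
    (hcross : ∀ i j, i ≠ j → ⁅⁅V, E i⁆, E j⁆ = ⊥) (i₀ : Fin r) (hpE : p ∣ Nat.card ↥(E i₀))
    {W : Type*} [AddCommGroup W] [Finite W] (hW : 3 ≤ Nat.card W) {S : Type*} [Group S]
    (act : S → W → W) (hfaithS : ∀ s, (∀ w, act s w = w) → s = 1) (ρ : ↥(E i₀) →* S)
    (hρ : Function.Bijective ρ) (ψ : ↥⁅V, E i₀⁆ →* Multiplicative W) (hψs : Function.Surjective ψ)
    (hψker : ∀ u, ψ u = 1 ↔ (u : G) ∈ ⁅V, E i₀⁆ ⊓ centralizer (E i₀ : Set G))
    (hψact : ∀ (e : ↥(E i₀)) (u : ↥⁅V, E i₀⁆), ∃ w : ↥⁅V, E i₀⁆, (w : G) = (e : G) * u * (e : G)⁻¹ ∧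
      Multiplicative.toAdd (ψ w) = act (ρ e) (Multiplicative.toAdd (ψ u)))
    (hbd : ∀ Y : Subgroup (Equiv.Perm W), (∀ x ∈ Y, ∀ y ∈ Y, x * y = y * x) → (∀ y ∈ Y, y ^ p = 1) →
      (∀ y ∈ Y, ∀ v w, y (v + w) = y v + y w) →
      (∀ y ∈ Y, ∀ s, ∃ s', ∀ w, y (act s w) = act s' (y w)) →
      Nat.card ↥Y * Nat.card {w : W // ∀ y ∈ Y, y w = w} ≤ Nat.card W ∧
        (Nat.card W ≤ Nat.card ↥Y * Nat.card {w : W // ∀ y ∈ Y, y w = w} →
          ∀ y ∈ Y, ∃ s, ∀ w, y w = act s w))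
    {X : Subgroup G} (hXP : X ≤ P) (hXc : ∀ a ∈ X, ∀ b ∈ X, a * b = b * a) (hXe : ∀ a ∈ X, a ^ p = 1)
    (hlarge : Nat.card V ≤ Nat.card X * Nat.card ↥(V ⊓ centralizer (X : Set G))) :
    X ≤ ⨆ i, E i := by
  classical
  have hUV : ∀ i, ⁅V, E i⁆ ≤ V := fun i => commutator_le.2 fun v hv g hg => by
    rw [commutatorElement_def, mul_assoc, mul_assoc, ← mul_assoc g]
    exact V.mul_mem hv (h.conj_V (hEP i hg) (V.inv_mem hv))
  have hsplit : ∀ v : ↥V, ∃ u : ↥⁅V, E i₀⁆, (v : G) * (u : G)⁻¹ ∈ centralizer (E i₀ : Set G) := by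
    let R : Subgroup G :=
      { carrier := {x | x ∈ V ∧ ∃ u : ↥⁅V, E i₀⁆, x * (u : G)⁻¹ ∈ centralizer (E i₀ : Set G)}
        one_mem' := ⟨V.one_mem, 1, by simp⟩
        mul_mem' := by
          rintro a b ⟨ha, u, hu⟩ ⟨hb, u', hu'⟩
          refine ⟨V.mul_mem ha hb, u * u', ?_⟩
          have hu1 := hUV i₀ u.2
          have hu2 := hUV i₀ u'.2
          rw [show a * b * ((u * u' : ↥⁅V, E i₀⁆) : G)⁻¹ = a * ((b * (u' : G)⁻¹) * (u : G)⁻¹) by
            rw [coe_mul, mul_inv_rev]; group,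
            h.comm _ (V.mul_mem hb (V.inv_mem hu2)) _ (V.inv_mem hu1), ← mul_assoc]
          exact mul_mem hu hu'
        inv_mem' := by
          rintro a ⟨ha, u, hu⟩
          refine ⟨V.inv_mem ha, u⁻¹, ?_⟩
          rw [show a⁻¹ * ((u⁻¹ : ↥⁅V, E i₀⁆) : G)⁻¹ = a⁻¹ * ((u : G)⁻¹)⁻¹ by rw [coe_inv],
            h.comm _ (V.inv_mem ha) _ (V.inv_mem (V.inv_mem (hUV i₀ u.2))), ← mul_inv_rev]
          exact inv_mem hu }
    have hle : V ≤ R := by
      conv_lhs => rw [← hdec]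
      refine sup_le (fun x hx => ⟨hx.1, 1, ?_⟩) (iSup_le fun i x hx => ⟨hUV i hx, ?_⟩)
      · simpa using centralizer_le (SetLike.coe_subset_coe.2 (le_iSup E i₀)) hx.2
      · by_cases hi : i = i₀
        · subst hi; exact ⟨⟨x, hx⟩, by simp⟩
        · exact ⟨1, by simpa using commutator_eq_bot_iff_le_centralizer.1 (hcross i i₀ hi) hx⟩
    exact fun v => (hle v.2).2
  choose sp hsp using hsplit
  -- the extension of `ψ`
  have hwell : ∀ (v : ↥V) (u : ↥⁅V, E i₀⁆), (v : G) * (u : G)⁻¹ ∈ centralizer (E i₀ : Set G) →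
      ψ (sp v) = ψ u := by
    intro v u hu
    rw [← div_eq_one, ← map_div, hψker]
    refine ⟨(sp v / u).2, ?_⟩
    show ((sp v / u : ↥⁅V, E i₀⁆) : G) ∈ centralizer (E i₀ : Set G)
    have e := mul_mem (inv_mem (hsp v)) hu
    rwa [div_eq_mul_inv, coe_mul, coe_inv,
      show (sp v : G) * (u : G)⁻¹ = ((v : G) * (sp v : G)⁻¹)⁻¹ * ((v : G) * (u : G)⁻¹) by group]
  let Ψ : Additive ↥V →+ W := AddMonoidHom.mk'
    (fun v => Multiplicative.toAdd (ψ (sp (Additive.toMul v)))) fun a b => by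
    obtain ⟨a, rfl⟩ := Additive.ofMul.surjective a
    obtain ⟨b, rfl⟩ := Additive.ofMul.surjective b
    rw [← ofMul_mul, ← toAdd_mul, ← map_mul]
    simp only [toMul_ofMul]
    rw [hwell (a * b) (sp a * sp b)]
    rw [coe_mul, coe_mul, show (a : G) * (b : G) * ((sp a : G) * (sp b : G))⁻¹ =
        (a : G) * (((b : G) * (sp b : G)⁻¹) * (sp a : G)⁻¹) by group,
      h.comm _ (V.mul_mem b.2 (V.inv_mem (hUV i₀ (sp b).2))) _ (V.inv_mem (hUV i₀ (sp a).2)), ← mul_assoc]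
    exact mul_mem (hsp a) (hsp b)
  have hΨ : ∀ (v : ↥V) (u : ↥⁅V, E i₀⁆), (v : G) * (u : G)⁻¹ ∈ centralizer (E i₀ : Set G) →
      Ψ (Additive.ofMul v) = Multiplicative.toAdd (ψ u) := fun v u hu =>
    congrArg Multiplicative.toAdd (hwell v u hu)
  have hΨU : ∀ u : ↥⁅V, E i₀⁆, Ψ (Additive.ofMul ⟨u, hUV i₀ u.2⟩) = Multiplicative.toAdd (ψ u) := fun u =>
    hΨ _ u (by simp)
  have hker : ∀ v : ↥V, Ψ (Additive.ofMul v) = 0 ↔ (v : G) ∈ centralizer (E i₀ : Set G) := by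
    intro v
    show Multiplicative.toAdd (ψ (sp v)) = 0 ↔ _
    rw [toAdd_eq_zero, hψker, mem_inf, and_iff_right (sp v).2]
    constructor
    · intro e; simpa using mul_mem (hsp v) e
    · intro e
      have := mul_mem (inv_mem (hsp v)) e
      rwa [mul_inv_rev, inv_inv, inv_mul_cancel_right] at this
  have hsurj : ∀ w, ∃ v : ↥V, (v : G) ∈ ⁅V, E i₀⁆ ∧ Ψ (Additive.ofMul v) = w := fun w => by
    obtain ⟨u, hu⟩ := hψs (Multiplicative.ofAdd w)
    exact ⟨⟨u, hUV i₀ u.2⟩, u.2, by rw [hΨU, hu, toAdd_ofAdd]⟩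
  have hind : ∀ (e : ↥(E i₀)) w, ind Ψ (e : G) w = act (ρ e) w := by
    intro e w
    obtain ⟨u, hu⟩ := hψs (Multiplicative.ofAdd w)
    obtain ⟨w', hw', hw'a⟩ := hψact e u
    have hK : KerPres Ψ (e : G) := by
      intro v hv0 hv
      refine (hker _).2 ?_
      show (e : G) * v * (e : G)⁻¹ ∈ _
      rw [mem_centralizer_iff.1 ((hker v).1 hv0) e e.2, mul_inv_cancel_right]
      exact (hker v).1 hv0
    have hwe : w = Ψ (Additive.ofMul ⟨u, hUV i₀ u.2⟩) := by rw [hΨU, hu, toAdd_ofAdd]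
    conv_lhs => rw [hwe]
    rw [ind_eq (h.hPV (hEP i₀ e.2)) hK]
    rw [hu, toAdd_ofAdd] at hw'a
    rw [← hw'a, ← hΨU]
    exact congrArg (fun x => Ψ (Additive.ofMul x)) (Subtype.ext hw'.symm)
  refine offender_mem h hEP hcomm hdirect hsup hconj hperm hdec hcross i₀ hpE hW Ψ hker hsurj ?_ ?_
    hXP hXc hXe hlarge
  · intro e he hfix
    have := hfaithS (ρ ⟨e, he⟩) fun w => by rw [← hind]; exact hfix w
    exact congrArg Subtype.val (hρ.1 (this.trans (map_one ρ).symm))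
  · intro Y hYc hYe hYa hYn
    refine (hbd Y hYc hYe hYa fun y hy s => ?_).imp id fun hb hle y hy => ?_
    · obtain ⟨e, rfl⟩ := hρ.2 s
      obtain ⟨e', he', hee⟩ := hYn y hy e e.2
      exact ⟨ρ ⟨e', he'⟩, fun w => by rw [← hind, hee, ← hind]⟩
    · obtain ⟨s, hs⟩ := hb hle y hy
      obtain ⟨e, rfl⟩ := hρ.2 s
      exact ⟨e, e.2, fun w => by rw [hs, hind]⟩

/-- A surjective map between isomorphic finite groups is bijective. -/
theorem bijective_of_range_eq_top {A B : Type*} [Group A] [Group B] [Finite A] {f : A →* B}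
    (hf : f.range = ⊤) (hiso : Nonempty (A ≃* B)) : Function.Bijective f :=
  ((MonoidHom.range_eq_top).1 hf).bijective_of_nat_card_le (Nat.card_congr hiso.some.toEquiv).le

/-- The same for linear components. -/
theorem offender_mem_sl2 (h : FFP p V P T M) (hEP : ∀ i, E i ≤ P)
    (hcomm : ∀ i j, i ≠ j → ⁅E i, E j⁆ = ⊥) (hdirect : ∀ i, E i ⊓ (⨆ j ∈ {j | j ≠ i}, E j) = ⊥)
    (hsup : (⨆ i, E i) ⊔ T = P) (hconj : ∀ i j, ∃ t ∈ T, (E i).map (MulAut.conj t).toMonoidHom = E j)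
    (hperm : ∀ t ∈ T, ∀ i, ∃ j, cj t (E i) = E j)
    (hdec : (V ⊓ centralizer (((⨆ i, E i) : Subgroup G) : Set G)) ⊔ (⨆ i, ⁅V, E i⁆) = V)
    (hcross : ∀ i j, i ≠ j → ⁅⁅V, E i⁆, E j⁆ = ⊥) (i₀ : Fin r)
    {F : Type*} [Field F] [Fintype F] {n : ℕ} (hn : 1 ≤ n) (hF : Fintype.card F = p ^ n)
    (hiso : Nonempty (↥(E i₀) ≃* Matrix.SpecialLinearGroup (Fin 2) F))
    (hact : Cfsg.ActsAsSL2OnSection F ⊤ (E i₀) ⁅V, E i₀⁆ (⁅V, E i₀⁆ ⊓ centralizer ((E i₀ : Subgroup G) : Set G)))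
    {X : Subgroup G} (hXP : X ≤ P) (hXc : ∀ a ∈ X, ∀ b ∈ X, a * b = b * a) (hXe : ∀ a ∈ X, a ^ p = 1)
    (hlarge : Nat.card V ≤ Nat.card X * Nat.card ↥(V ⊓ centralizer (X : Set G))) :
    X ≤ ⨆ i, E i := by
  classical
  obtain ⟨-, -, ρ, ψ, hρ, hψs, hψker, hψact⟩ := hact
  have hchar : (p : F) = 0 := by
    have h0 : (Fintype.card F : F) = 0 := FiniteField.cast_card_eq_zero F
    rw [hF, Nat.cast_pow] at h0
    exact eq_zero_of_pow_eq_zero h0
  have hp2 := (Fact.out : p.Prime).two_le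
  have hW : 3 ≤ Nat.card (Fin 2 → F) := by
    have h2 : 2 ≤ Fintype.card F := Fintype.one_lt_card
    rw [Nat.card_fun, Nat.card_fin, Nat.card_eq_fintype_card]
    nlinarith
  have hpE : p ∣ Nat.card ↥(E i₀) := by
    let u : Matrix.SpecialLinearGroup (Fin 2) F := ⟨!![1, 1; 0, 1], by simp [Matrix.det_fin_two]⟩
    have hu : ∀ k : ℕ, ((u ^ k : Matrix.SpecialLinearGroup (Fin 2) F) : Matrix (Fin 2) (Fin 2) F) =
        !![1, (k : F); 0, 1] := by
      intro k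
      induction k with
      | zero => ext i j; fin_cases i <;> fin_cases j <;> simp
      | succ k ih =>
        rw [pow_succ, Matrix.SpecialLinearGroup.coe_mul, ih]
        ext i j; fin_cases i <;> fin_cases j <;> simp [u, Matrix.mul_apply, Fin.sum_univ_two, add_comm]
    have hord : orderOf u = p := orderOf_eq_prime (Subtype.ext (by rw [hu, hchar]; ext i j; fin_cases i <;> fin_cases j <;> simp))
      fun e => by
        have := congrArg (fun m : Matrix.SpecialLinearGroup (Fin 2) F => (m : Matrix (Fin 2) (Fin 2) F) 0 1) e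
        simp [u] at this
    obtain ⟨e⟩ := hiso
    rw [Nat.card_congr e.toEquiv, ← hord]
    exact orderOf_dvd_natCard u
  refine offender_mem_of_section h hEP hcomm hdirect hsup hconj hperm hdec hcross i₀ hpE hW
    (fun (s : Matrix.SpecialLinearGroup (Fin 2) F) w => (s : Matrix (Fin 2) (Fin 2) F).mulVec w) ?_ ρ
    (bijective_of_range_eq_top hρ hiso) ψ hψs hψker hψact ?_ hXP hXc hXe hlarge
  · intro s hs
    exact Subtype.ext (Matrix.ext_of_mulVec_single fun j => by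
      rw [hs, Matrix.SpecialLinearGroup.coe_one, Matrix.one_mulVec])
  · intro Y hc he ha hn'
    exact sl2_normaliser_bound hchar Y hc he ha hn'

/-- The same for symmetric components. -/
theorem offender_mem_perm (h : FFP 2 V P T M) (hEP : ∀ i, E i ≤ P)
    (hcomm : ∀ i j, i ≠ j → ⁅E i, E j⁆ = ⊥) (hdirect : ∀ i, E i ⊓ (⨆ j ∈ {j | j ≠ i}, E j) = ⊥)
    (hsup : (⨆ i, E i) ⊔ T = P) (hconj : ∀ i j, ∃ t ∈ T, (E i).map (MulAut.conj t).toMonoidHom = E j)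
    (hperm : ∀ t ∈ T, ∀ i, ∃ j, cj t (E i) = E j)
    (hdec : (V ⊓ centralizer (((⨆ i, E i) : Subgroup G) : Set G)) ⊔ (⨆ i, ⁅V, E i⁆) = V)
    (hcross : ∀ i j, i ≠ j → ⁅⁅V, E i⁆, E j⁆ = ⊥) (i₀ : Fin r) {n : ℕ} (hn : 3 ≤ n) (hodd : (n : ZMod 2) = 1)
    (hiso : Nonempty (↥(E i₀) ≃* Equiv.Perm (Fin n)))
    (hact : Cfsg.ActsAsOddPermModuleOnSection n ⊤ (E i₀) ⁅V, E i₀⁆
      (⁅V, E i₀⁆ ⊓ centralizer ((E i₀ : Subgroup G) : Set G)))
    {X : Subgroup G} (hXP : X ≤ P) (hXc : ∀ a ∈ X, ∀ b ∈ X, a * b = b * a) (hXe : ∀ a ∈ X, a ^ 2 = 1)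
    (hlarge : Nat.card V ≤ Nat.card X * Nat.card ↥(V ⊓ centralizer (X : Set G))) :
    X ≤ ⨆ i, E i := by
  classical
  haveI : Fact (Nat.Prime 2) := ⟨Nat.prime_two⟩
  obtain ⟨-, -, ρ, ψ, hρ, hsum, hψs, hψker, hψact⟩ := hact
  let o0 : Fin n := ⟨0, by omega⟩
  let o1 : Fin n := ⟨1, by omega⟩
  let o2 : Fin n := ⟨2, by omega⟩
  have h01 : o0 ≠ o1 := fun e => by simp [o0, o1, o2, Fin.ext_iff] at e
  have h12 : o1 ≠ o2 := fun e => by simp [o0, o1, o2, Fin.ext_iff] at e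
  have h02 : o0 ≠ o2 := fun e => by simp [o0, o1, o2, Fin.ext_iff] at e
  have hW : 3 ≤ Nat.card ↥(evW n) := by
    haveI := Fintype.ofFinite ↥(evW n)
    rw [Nat.card_eq_fintype_card, Nat.succ_le_iff, Fintype.two_lt_card_iff]
    refine ⟨0, evPair o0 o1, evPair o1 o2, (evPair_ne_zero h01).symm, (evPair_ne_zero h12).symm, fun e => ?_⟩
    rcases evPair_eq h01 e with ⟨e1, -⟩ | ⟨e1, -⟩
    · exact h01 e1
    · exact h02 e1
  have hpE : 2 ∣ Nat.card ↥(E i₀) := by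
    obtain ⟨e⟩ := hiso
    rw [Nat.card_congr e.toEquiv]
    have hord : orderOf (Equiv.swap o0 o1) = 2 :=
      orderOf_eq_prime (by rw [sq, Equiv.swap_mul_self]) (fun e => h01 (Equiv.swap_eq_one_iff.1 e))
    exact hord ▸ orderOf_dvd_natCard _
  let ψ' : ↥⁅V, E i₀⁆ →* Multiplicative ↥(evW n) := MonoidHom.mk'
    (fun u => Multiplicative.ofAdd (⟨Multiplicative.toAdd (ψ u), hsum u⟩ : ↥(evW n)))
    fun a b => Multiplicative.toAdd.injective (Subtype.ext (by simp))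
  have hψ' : ∀ u, (Multiplicative.toAdd (ψ' u)).1 = Multiplicative.toAdd (ψ u) := fun _ => rfl
  refine offender_mem_of_section h hEP hcomm hdirect hsup hconj hperm hdec hcross i₀ hpE hW
    evAct (fun s hs => evAct_faithful hn hs) ρ
    (bijective_of_range_eq_top hρ hiso) ψ' ?_ ?_ ?_ ?_ hXP hXc hXe hlarge
  · intro w
    obtain ⟨u, hu⟩ := hψs _ w.toAdd.2
    exact ⟨u, Multiplicative.toAdd.injective (Subtype.ext hu)⟩
  · intro u
    rw [← hψker u, ← toAdd_eq_zero, ← toAdd_eq_zero, ← hψ' u, Subtype.ext_iff]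
    rfl
  · intro e u
    obtain ⟨w, hw, hwa⟩ := hψact e u
    exact ⟨w, hw, Subtype.ext (funext fun i => hwa i)⟩
  · intro Y hc _ ha hn'
    obtain ⟨h1, h2⟩ := perm_normaliser_bound hn hodd Y hc ha hn'
    exact ⟨h1, fun _ => h2⟩

end Cfsg.Agent.H34.Star
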